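import Groth.Agent.Fano.K924.TwEx
import Groth.Agent.Fano.K714.FanoConn

/-!
# Configurations of lines on a smooth cubic threefold

* `exists_three`: three pairwise disjoint lines on a smooth hyperplane section.
* `exists_meeting`: for a line `M` on a smooth hyperplane section a line meeting `M` not contained in the section.
* `exists_conf`: both together.
-/

set_option autoImplicit false
universe u

namespace K483.LineConf

open K656.Trilin Module K714.Surf K714.SurfGeo K714.FanoConn Groth.Agent.Lefpen.H703.ZOpen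

variable {k : Type u} [Field k] [IsAlgClosed k] [CharZero k]
  {T : (Fin 5 → k) →ₗ[k] (Fin 5 → k) →ₗ[k] (Fin 5 → k) →ₗ[k] k}

theorem disj (hT : IsSym3 T) {W : Submodule k (Fin 5 → k)} (hW : finrank k ↥W = 4) (hsmW : SmoothOn T W)
    {x : Lines T W} {y z : Fin 5 → Lines T W} (htri : ∀ i, Tri x.1 (y i).1 (z i).1)
    (hne : ∀ i j, i ≠ j → y i ≠ y j ∧ y i ≠ z j) {i j : Fin 5} (hij : i ≠ j) : (y i).1 ⊓ (y j).1 = ⊥ := by
  by_contra hm
  have h5 := K714.Five.five hT hW hsmW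
  have e1 : ∃ u, (geo hT hW hsmW h5).tri (y i) x u := ⟨z i, (geo hT hW hsmW h5).swap12 (htri i)⟩
  have e2 : ∃ u, (geo hT hW hsmW h5).tri (y i) (y j) u := by
    obtain ⟨u, hu, hu'⟩ := (inc_iff hT hW hsmW (y i).2.1 (y j).2.1 (y i).2.2 (y j).2.2).2
      ⟨fun h => (hne i j hij).1 (Subtype.ext h), hm⟩
    exact ⟨⟨u, hu⟩, hu'⟩
  exact (geo hT hW hsmW h5).meet_unique (x := x) (htri j) (hne i j hij).2 e1 e2

/-- Three pairwise disjoint lines. -/
theorem exists_three (hT : IsSym3 T) {W : Submodule k (Fin 5 → k)} (hW : finrank k ↥W = 4) (hsmW : SmoothOn T W) :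
    ∃ M N M' : Submodule k (Fin 5 → k), IsLine T M ∧ IsLine T N ∧ IsLine T M' ∧ M ≤ W ∧ N ≤ W ∧ M' ≤ W ∧
      M ⊓ N = ⊥ ∧ M ⊓ M' = ⊥ ∧ N ⊓ M' = ⊥ := by
  obtain ⟨Y, hY, hYW⟩ := K714.Five.exists_line T hW
  obtain ⟨y, z, htri, hne⟩ := K714.Five.five hT hW hsmW ⟨Y, hY, hYW⟩
  exact ⟨(y 0).1, (y 1).1, (y 2).1, (y 0).2.1, (y 1).2.1, (y 2).2.1, (y 0).2.2, (y 1).2.2, (y 2).2.2,
    disj hT hW hsmW htri hne (by decide), disj hT hW hsmW htri hne (by decide),
    disj hT hW hsmW htri hne (by decide)⟩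

omit [CharZero k] in
/-- A second smooth hyperplane section through a line. -/
theorem exists_second {ξ : Dual k (Fin 5 → k)} (hξ : ξ ≠ 0) (hsm : SmoothOn T (LinearMap.ker ξ))
    {M : Submodule k (Fin 5 → k)} (hM : finrank k ↥M = 2) (hMW : M ≤ LinearMap.ker ξ) :
    ∃ ξ' : Dual k (Fin 5 → k), ξ' ≠ 0 ∧ SmoothOn T (LinearMap.ker ξ') ∧ M ≤ LinearMap.ker ξ' ∧
      ¬ LinearMap.ker ξ ≤ LinearMap.ker ξ' := by
  have hinf : Infinite k := IsAlgClosed.instInfinite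
  have hWf : finrank k ↥(LinearMap.ker ξ) = 4 := by
    have := Module.Dual.finrank_ker_add_one_of_ne_zero hξ
    rw [finrank_fintype_fun_eq_card, Fintype.card_fin] at this
    omega
  obtain ⟨v, hv, hvM⟩ : ∃ v ∈ LinearMap.ker ξ, v ∉ M := by
    by_contra hcon
    push Not at hcon
    have := Submodule.finrank_mono (show LinearMap.ker ξ ≤ M from hcon)
    omega
  obtain ⟨η, hηv, hηM⟩ := Submodule.exists_dual_map_eq_bot_of_notMem hvM inferInstance
  have hηM' : ∀ m ∈ M, η m = 0 := fun m hm => by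
    have : η m ∈ M.map η := Submodule.mem_map_of_mem hm
    rw [hηM] at this
    exact (Submodule.mem_bot k).1 this
  obtain ⟨f, hf, hfξ, hfO⟩ := isZOpen_smooth T ξ ⟨hξ, hsm⟩
  obtain ⟨P, hP⟩ := pf_line hf ξ (ξ + η)
  have hP0 : P ≠ 0 := by
    rintro rfl
    apply hfξ
    have := hP 0
    simpa using this.symm
  obtain ⟨t, ht⟩ : ∃ t : k, (P * Polynomial.X).eval t ≠ 0 := by
    by_contra hcon
    push Not at hcon
    exact mul_ne_zero hP0 Polynomial.X_ne_zero (Polynomial.funext fun t => by rw [hcon, Polynomial.eval_zero])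
  rw [Polynomial.eval_mul, Polynomial.eval_X] at ht
  have ht0 : t ≠ 0 := right_ne_zero_of_mul ht
  have h1 := hfO (ξ + t • (ξ + η - ξ)) (by rw [← hP]; exact left_ne_zero_of_mul ht)
  rw [add_sub_cancel_left] at h1
  refine ⟨ξ + t • η, h1.1, h1.2, fun m hm => ?_, fun hle => ?_⟩
  · rw [LinearMap.mem_ker, LinearMap.add_apply, LinearMap.smul_apply, hηM' m hm, LinearMap.mem_ker.1 (hMW hm)]
    simp
  · have h2 := LinearMap.mem_ker.1 (hle hv)
    rw [LinearMap.add_apply, LinearMap.smul_apply, LinearMap.mem_ker.1 hv, zero_add, smul_eq_mul] at h2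
    exact (mul_ne_zero ht0 hηv) h2

theorem exists_meeting (hT : IsSym3 T) {ξ : Dual k (Fin 5 → k)} (hξ : ξ ≠ 0)
    (hsm : SmoothOn T (LinearMap.ker ξ)) {M : Submodule k (Fin 5 → k)} (hM : IsLine T M) (hMW : M ≤ LinearMap.ker ξ) :
    ∃ L : Submodule k (Fin 5 → k), IsLine T L ∧ M ⊓ L ≠ ⊥ ∧ ¬ L ≤ LinearMap.ker ξ := by
  obtain ⟨ξ', hξ', hsm', hMW', hle⟩ := exists_second hξ hsm hM.1 hMW
  have h4 : ∀ {ζ : Dual k (Fin 5 → k)}, ζ ≠ 0 → finrank k ↥(LinearMap.ker ζ) = 4 := fun {ζ} hζ => by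
    have := Module.Dual.finrank_ker_add_one_of_ne_zero hζ
    rw [finrank_fintype_fun_eq_card, Fintype.card_fin] at this
    omega
  have hWf := h4 hξ
  have hWf' := h4 hξ'
  obtain ⟨y, z, htri, hne⟩ := K714.Five.five hT hWf' hsm' ⟨M, hM, hMW'⟩
  have hmeet : ∀ i, M ⊓ (y i).1 ≠ ⊥ := fun i => by
    obtain ⟨-, P, hP, h1, h2, -⟩ := htri i
    exact meet_of_le hM (y i).2.1 hP h1 h2
  by_cases h0 : (y 0).1 ≤ LinearMap.ker ξ
  · by_cases h1 : (y 1).1 ≤ LinearMap.ker ξ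
    · exfalso
      have hd := disj hT hWf' hsm' htri hne (i := 0) (j := 1) (by decide)
      have h2 := Submodule.finrank_sup_add_finrank_inf_eq (y 0).1 (y 1).1
      rw [hd, finrank_bot, (y 0).2.1.1, (y 1).2.1.1] at h2
      have h3 : (y 0).1 ⊔ (y 1).1 ≤ LinearMap.ker ξ ⊓ LinearMap.ker ξ' :=
        sup_le (le_inf h0 (y 0).2.2) (le_inf h1 (y 1).2.2)
      have h5 := Submodule.finrank_mono h3
      have h6 : LinearMap.ker ξ ⊓ LinearMap.ker ξ' = LinearMap.ker ξ :=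
        Submodule.eq_of_le_of_finrank_le inf_le_left (by omega)
      exact hle (inf_eq_left.1 h6)
    · exact ⟨(y 1).1, (y 1).2.1, hmeet 1, h1⟩
  · exact ⟨(y 0).1, (y 0).2.1, hmeet 0, h0⟩

/-- The configuration used for the rational quintic. -/
theorem exists_conf (hT : IsSym3 T) (hsm : SmoothOn T ⊤) :
    ∃ W M N M' L : Submodule k (Fin 5 → k), finrank k ↥W = 4 ∧ IsLine T M ∧ IsLine T N ∧ IsLine T M' ∧
      IsLine T L ∧ M ≤ W ∧ N ≤ W ∧ M' ≤ W ∧ M ⊓ N = ⊥ ∧ M ⊓ M' = ⊥ ∧ N ⊓ M' = ⊥ ∧ M ⊓ L ≠ ⊥ ∧ ¬ L ≤ W := by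
  obtain ⟨ξ, hξ, -, hsmξ⟩ := K714.Bertini.exists_smooth_section hT (by simp) hsm
    (M := Submodule.span k {(Pi.single 0 1 : Fin 5 → k), Pi.single 1 1}) (by
      have hli : LinearIndependent k ![(Pi.single 0 1 : Fin 5 → k), Pi.single 1 1] := by
        rw [LinearIndependent.pair_iff]
        intro s t h
        constructor
        · simpa using congrFun h 0
        · simpa using congrFun h 1
      have := finrank_span_eq_card hli
      rwa [Matrix.range_cons, Matrix.range_cons, Matrix.range_empty, Set.union_empty,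
        Set.singleton_union, Fintype.card_fin] at this)
  have hW : finrank k ↥(LinearMap.ker ξ) = 4 := by
    have := Module.Dual.finrank_ker_add_one_of_ne_zero hξ
    rw [finrank_fintype_fun_eq_card, Fintype.card_fin] at this
    omega
  obtain ⟨M, N, M', hM, hN, hM', hMW, hNW, hMW', h1, h2, h3⟩ := exists_three hT hW hsmξ
  obtain ⟨L, hL, hLM, hLW⟩ := exists_meeting hT hξ hsmξ hM hMW
  exact ⟨LinearMap.ker ξ, M, N, M', L, hW, hM, hN, hM', hL, hMW, hNW, hMW', h1, h2, h3, hLM, hLW⟩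

omit [IsAlgClosed k] [CharZero k] in
/-- Bases of two skew lines. -/
theorem li_of_disj {M N : Submodule k (Fin 5 → k)} (hMN : M ⊓ N = ⊥) {a₀ a₁ n₀ n₁ : Fin 5 → k} (h0 : a₀ ∈ M)
    (h1 : a₁ ∈ M) (h2 : n₀ ∈ N) (h3 : n₁ ∈ N) (ha : LinearIndependent k ![a₀, a₁])
    (hn : LinearIndependent k ![n₀, n₁]) : LinearIndependent k ![a₀, a₁, n₀, n₁] := by
  rw [LinearIndependent.pair_iff] at ha hn
  rw [Fintype.linearIndependent_iff]
  intro g hg
  rw [Fin.sum_univ_four] at hg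
  simp only [Matrix.cons_val] at hg
  have e1 : g 0 • a₀ + g 1 • a₁ ∈ M ⊓ N := by
    refine ⟨M.add_mem (M.smul_mem _ h0) (M.smul_mem _ h1), ?_⟩
    have e : g 0 • a₀ + g 1 • a₁ = -(g 2 • n₀ + g 3 • n₁) := by
      rw [eq_neg_iff_add_eq_zero, ← add_assoc]
      exact hg
    rw [e]
    exact N.neg_mem (N.add_mem (N.smul_mem _ h2) (N.smul_mem _ h3))
  rw [hMN, Submodule.mem_bot] at e1
  have e2 : g 2 • n₀ + g 3 • n₁ = 0 := by
    rw [add_assoc (g 0 • a₀ + g 1 • a₁), e1, zero_add] at hg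
    exact hg
  obtain ⟨x0, x1⟩ := ha _ _ e1
  obtain ⟨x2, x3⟩ := hn _ _ e2
  intro i
  fin_cases i
  exacts [x0, x1, x2, x3]

omit [IsAlgClosed k] [CharZero k] in
/-- A basis of a line. -/
theorem exists_basis {M : Submodule k (Fin 5 → k)} (hM : finrank k ↥M = 2) :
    ∃ a b : Fin 5 → k, a ∈ M ∧ b ∈ M ∧ LinearIndependent k ![a, b] ∧ M = Submodule.span k {a, b} := by
  have hne : M ≠ ⊥ := by
    rintro rfl
    rw [finrank_bot] at hM
    omega
  obtain ⟨a, ha, ha0⟩ := Submodule.exists_mem_ne_zero_of_ne_bot hne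
  obtain ⟨b, hb, h1, h2⟩ := K924.TwEx.exists_basis_of_mem hM ha ha0
  exact ⟨a, b, ha, hb, h1, h2⟩

end K483.LineConf
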