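import Groth.Agent.Fano.K483.SepCl
import Groth.Agent.Fano.K798.TwBin

/-!
# Sections of rational normal scrolls are embedded curves

`c = α a + β b` with parametrised rational normal curves `a`, `b` of degrees `p`, `q ≥ 1` with complementary spans and
binary forms `α`, `β` of positive degrees without common zero.

* `sep`, `nz`: `c` separates points and has no base points.
* `exists_curve`: if the curve lies on `V_+(f)` it is a closed immersion `P^1 → V_+(f)`.
-/

set_option autoImplicit false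
universe u

open CategoryTheory AlgebraicGeometry

namespace K483.ScrollSep

open LefPen Groth.Agent.Fano.K714.Rat K475.RatAlg K798.TwBin

variable {k : Type u} [Field k] {d p q e₁ e₂ : ℕ}

/-- `c = α a + β b`. -/
structure Data (c : Fin (d + 1) → Fin 5 → k) (a : Fin (p + 1) → Fin 5 → k) (b : Fin (q + 1) → Fin 5 → k)
    (α : Fin (e₁ + 1 + 1) → k) (β : Fin (e₂ + 1 + 1) → k) : Prop where
  hp : 1 ≤ p
  hq : 1 ≤ q
  eq : ∀ s t : k, cpt c s t = bv α s t • cpt a s t + bv β s t • cpt b s t
  li : LinearIndependent k (Sum.elim a b)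
  no : ∀ s t : k, (s ≠ 0 ∨ t ≠ 0) → bv α s t = 0 → bv β s t = 0 → False

/-- The value of a form in a `k`-algebra. -/
noncomputable def bB {B : Type u} [CommRing B] [Algebra k B] {e : ℕ} (α : Fin (e + 1) → k) (x : Fin 2 → B) : B :=
  MvPolynomial.eval₂ (algebraMap k B) x (bp α)

/-- The dual system. -/
theorem exists_dual {ι : Type} [Fintype ι] [DecidableEq ι] {v : ι → Fin 5 → k} (hv : LinearIndependent k v) :
    ∃ A : ι → Fin 5 → k, ∀ m m' : ι, ∑ l, A m l * v m' l = if m = m' then 1 else 0 := by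
  obtain ⟨g, hg⟩ := LinearMap.exists_leftInverse_of_injective (Fintype.linearCombination k v)
    (LinearMap.ker_eq_bot.2 (linearIndependent_iff_injective_fintypeLinearCombination.1 hv))
  refine ⟨fun m l => g (Pi.single l 1) m, fun m m' => ?_⟩
  have h1 : g (v m') = Pi.single m' 1 := by
    have h2 := congrArg (fun φ => φ (Pi.single m' 1)) hg
    simpa [Fintype.linearCombination_apply_single] using h2
  have h3 : g (v m') = ∑ l, v m' l • g (Pi.single l 1) := by
    conv_lhs => rw [← Finset.univ_sum_single (v m'), map_sum]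
    refine Finset.sum_congr rfl fun l _ => ?_
    rw [← map_smul]
    congr 1
    ext i
    simp [Pi.single_apply]
  have h4 := congrFun (h1.symm.trans h3) m
  rw [Finset.sum_apply] at h4
  rw [Pi.single_apply] at h4
  rw [h4]
  exact Finset.sum_congr rfl fun l _ => mul_comm _ _

section

variable {c : Fin (d + 1) → Fin 5 → k} {a : Fin (p + 1) → Fin 5 → k} {b : Fin (q + 1) → Fin 5 → k}
    {α : Fin (e₁ + 1 + 1) → k} {β : Fin (e₂ + 1 + 1) → k}

theorem Data.bform_eq [Infinite k] (h : Data c a b α β) (l : Fin 5) :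
    (bform c l).1 = bp α * (bform a l).1 + bp β * (bform b l).1 := by
  refine MvPolynomial.funext fun x => ?_
  rw [map_add, map_mul, map_mul, eval_bform, eval_bform, eval_bform, eval_bp, eval_bp]
  have := congrFun (h.eq (x 0) (x 1)) l
  simpa using this

theorem Data.ev_eq [Infinite k] (h : Data c a b α β) {B : Type u} [CommRing B] [Algebra k B] (x : Fin 2 → B)
    (l : Fin 5) : ev c x l = bB α x * ev a x l + bB β x * ev b x l := by
  rw [← eval₂_bform, ← eval₂_bform, ← eval₂_bform, h.bform_eq, MvPolynomial.eval₂_add, MvPolynomial.eval₂_mul,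
    MvPolynomial.eval₂_mul]
  rfl

/-- The coefficients of the directing curves. -/
theorem sum_ev {B : Type u} [CommRing B] [Algebra k B] {p : ℕ} {a : Fin (p + 1) → Fin 5 → k} (x : Fin 2 → B)
    (A : Fin 5 → k) : ∑ l, algebraMap k B (A l) * ev a x l =
      ∑ m : Fin (p + 1), algebraMap k B (∑ l, A l * a m l) * (x 0 ^ (p - (m : ℕ)) * x 1 ^ (m : ℕ)) := by
  simp only [ev, Finset.mul_sum, map_sum, map_mul, Finset.sum_mul]
  rw [Finset.sum_comm]
  refine Finset.sum_congr rfl fun m _ => Finset.sum_congr rfl fun l _ => ?_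
  ring

theorem Data.exists_coef [Infinite k] (h : Data c a b α β) : ∃ (A : Fin (p + 1) → Fin 5 → k)
    (A' : Fin (q + 1) → Fin 5 → k), ∀ {B : Type u} [CommRing B] [Algebra k B] (x : Fin 2 → B),
      (∀ m : Fin (p + 1), ∑ l, algebraMap k B (A m l) * ev c x l = bB α x * (x 0 ^ (p - (m : ℕ)) * x 1 ^ (m : ℕ))) ∧
      (∀ m : Fin (q + 1), ∑ l, algebraMap k B (A' m l) * ev c x l =
        bB β x * (x 0 ^ (q - (m : ℕ)) * x 1 ^ (m : ℕ))) := by
  obtain ⟨A, hA⟩ := exists_dual h.li
  refine ⟨fun m => A (Sum.inl m), fun m => A (Sum.inr m), fun {B} _ _ x => ?_⟩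
  have h1 : ∀ z, ∑ l, algebraMap k B (A z l) * ev c x l =
      bB α x * ∑ m : Fin (p + 1), algebraMap k B (∑ l, A z l * a m l) * (x 0 ^ (p - (m : ℕ)) * x 1 ^ (m : ℕ)) +
      bB β x * ∑ m : Fin (q + 1), algebraMap k B (∑ l, A z l * b m l) * (x 0 ^ (q - (m : ℕ)) * x 1 ^ (m : ℕ)) := by
    intro z
    rw [← sum_ev, ← sum_ev, Finset.mul_sum, Finset.mul_sum, ← Finset.sum_add_distrib]
    refine Finset.sum_congr rfl fun l _ => ?_
    rw [h.ev_eq]
    ring
  have ha : ∀ z (m : Fin (p + 1)), ∑ l, A z l * a m l = if z = Sum.inl m then 1 else 0 := fun z m => hA z (Sum.inl m)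
  have hb : ∀ z (m : Fin (q + 1)), ∑ l, A z l * b m l = if z = Sum.inr m then 1 else 0 := fun z m => hA z (Sum.inr m)
  constructor
  · intro m
    rw [h1]
    have e1 : ∑ m' : Fin (q + 1), algebraMap k B (∑ l, A (Sum.inl m) l * b m' l) *
        (x 0 ^ (q - (m' : ℕ)) * x 1 ^ (m' : ℕ)) = 0 :=
      Finset.sum_eq_zero fun m' _ => by rw [hb, if_neg (by simp), map_zero, zero_mul]
    rw [e1, mul_zero, add_zero]
    congr 1
    rw [Finset.sum_eq_single m]
    · rw [ha, if_pos rfl, map_one, one_mul]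
    · intro m' _ hm
      rw [ha, if_neg (fun h => hm (Sum.inl_injective h).symm), map_zero, zero_mul]
    · intro hm; exact absurd (Finset.mem_univ _) hm
  · intro m
    rw [h1]
    have e1 : ∑ m' : Fin (p + 1), algebraMap k B (∑ l, A (Sum.inr m) l * a m' l) *
        (x 0 ^ (p - (m' : ℕ)) * x 1 ^ (m' : ℕ)) = 0 :=
      Finset.sum_eq_zero fun m' _ => by rw [ha, if_neg (by simp), map_zero, zero_mul]
    rw [e1, mul_zero, zero_add]
    congr 1
    rw [Finset.sum_eq_single m]
    · rw [hb, if_pos rfl, map_one, one_mul]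
    · intro m' _ hm
      rw [hb, if_neg (fun h => hm (Sum.inr_injective h).symm), map_zero, zero_mul]
    · intro hm; exact absurd (Finset.mem_univ _) hm

/-- the two coordinates of proportional points -/
theorem key {B : Type u} [CommRing B] {b b' : Fin 2 → B} {A A' u : B} {p : ℕ} (hp : 1 ≤ p)
    (h : ∀ m : Fin (p + 1), A' * (b' 0 ^ (p - (m : ℕ)) * b' 1 ^ (m : ℕ)) =
      u * (A * (b 0 ^ (p - (m : ℕ)) * b 1 ^ (m : ℕ)))) {j' : Fin 2} (hj' : IsUnit (b' j')) :
    A' * (b' 0 * b 1 - b' 1 * b 0) = 0 := by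
  obtain ⟨n, rfl⟩ : ∃ n, p = n + 1 := ⟨p - 1, by omega⟩
  fin_cases j'
  · have h0 := h 0
    have h1 := h ⟨1, by omega⟩
    simp only [Fin.val_zero, Nat.sub_zero, pow_zero, mul_one, Nat.add_sub_cancel, pow_succ] at h0 h1
    have h2 : IsUnit (b' 0 ^ n) := hj'.pow n
    apply h2.mul_left_cancel
    linear_combination b 1 * h0 - b 0 * h1
  · have h0 := h ⟨n + 1, by omega⟩
    have h1 := h ⟨n, by omega⟩
    have e : n + 1 - n = 1 := by omega
    simp only [Nat.sub_self, pow_zero, one_mul, pow_succ, e] at h0 h1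
    have h2 : IsUnit (b' 1 ^ n) := hj'.pow n
    apply h2.mul_left_cancel
    linear_combination b 1 * h1 - b 0 * h0

/-- Bezout in a `k`-algebra. -/
theorem bezoutB [IsAlgClosed k] (hno : ∀ s t : k, (s ≠ 0 ∨ t ≠ 0) → bv α s t = 0 → bv β s t = 0 → False)
    {B : Type u} [CommRing B] [Algebra k B] {x : Fin 2 → B} {j : Fin 2} (hj : IsUnit (x j)) {z : B}
    (h1 : bB α x * z = 0) (h2 : bB β x * z = 0) : z = 0 := by
  have hinf : Infinite k := IsAlgClosed.instInfinite
  have key : ∀ G : Fin (e₁ + e₂ + 1 + 1) → k, bB G x * z = 0 := by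
    intro G
    obtain ⟨A, A', hA⟩ := bezout α β hno G
    have h3 : bp A * bp α + bp A' * bp β = bp G := by
      refine MvPolynomial.funext fun y => ?_
      rw [map_add, map_mul, map_mul, eval_bp, eval_bp, eval_bp, eval_bp, eval_bp]
      exact hA _ _
    have h4 : bB G x = bB A x * bB α x + bB A' x * bB β x := by
      rw [bB, ← h3, MvPolynomial.eval₂_add, MvPolynomial.eval₂_mul, MvPolynomial.eval₂_mul]
      rfl
    rw [h4]
    linear_combination bB A x * h1 + bB A' x * h2
  have h5 : ∀ m : Fin (e₁ + e₂ + 1 + 1), bB (Pi.single m (1 : k)) x =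
      x 0 ^ (e₁ + e₂ + 1 - (m : ℕ)) * x 1 ^ (m : ℕ) := by
    intro m
    rw [bB, bp, MvPolynomial.eval₂_sum, Finset.sum_eq_single m]
    · simp
    · intro m' _ hm
      simp [hm]
    · intro hm; exact absurd (Finset.mem_univ _) hm
  fin_cases j
  · have h6 := key (Pi.single 0 1)
    rw [h5] at h6
    simp only [Fin.val_zero, Nat.sub_zero, pow_zero, mul_one] at h6
    exact (hj.pow (e₁ + e₂ + 1)).mul_left_cancel (h6.trans (mul_zero _).symm)
  · have h6 := key (Pi.single ⟨e₁ + e₂ + 1, by omega⟩ 1)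
    rw [h5] at h6
    simp only [Nat.sub_self, pow_zero, one_mul] at h6
    exact (hj.pow (e₁ + e₂ + 1)).mul_left_cancel (h6.trans (mul_zero _).symm)

theorem Data.sep [IsAlgClosed k] (h : Data c a b α β) : Sep c := by
  intro B _ _ _ x x' j j' u hj hj' hu hx
  have hinf : Infinite k := IsAlgClosed.instInfinite
  obtain ⟨A, A', hA⟩ := h.exists_coef
  have e : ∀ z : Fin 5 → k, ∑ l, algebraMap k B (z l) * ev c x' l = u * ∑ l, algebraMap k B (z l) * ev c x l := by
    intro z
    rw [Finset.mul_sum]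
    exact Finset.sum_congr rfl fun l _ => by rw [hx]; ring
  have h1 : bB α x' * (x' 0 * x 1 - x' 1 * x 0) = 0 := key h.hp (fun m => by
    have h2 := e (A m)
    rw [(hA x').1, (hA x).1] at h2
    exact h2) hj'
  have h2 : bB β x' * (x' 0 * x 1 - x' 1 * x 0) = 0 := key h.hq (fun m => by
    have h2 := e (A' m)
    rw [(hA x').2, (hA x).2] at h2
    exact h2) hj'
  have h3 := bezoutB h.no hj' h1 h2
  obtain ⟨w, hw⟩ := hj
  refine ⟨x' j * ↑w⁻¹, fun l => ?_⟩
  have h4 : x' j * x l = x' l * x j := by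
    fin_cases j <;> fin_cases l <;> simp only [Fin.zero_eta, Fin.mk_one, Fin.isValue]
    · linear_combination h3
    · linear_combination -h3
  have h5 : (↑w⁻¹ : B) * x j = 1 := by rw [← hw, Units.inv_mul]
  linear_combination -(↑w⁻¹ : B) * h4 - x' l * h5

theorem Data.nz [IsAlgClosed k] (h : Data c a b α β) : Nz c := by
  intro x hx
  have hinf : Infinite k := IsAlgClosed.instInfinite
  by_contra hcon
  push Not at hcon
  obtain ⟨A, A', hA⟩ := h.exists_coef
  obtain ⟨j, hj⟩ := Function.ne_iff.1 hx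
  have hj' : IsUnit (x j) := IsUnit.mk0 _ hj
  have h0 : ∀ z : Fin 5 → k, ∑ l, algebraMap k k (z l) * ev c x l = 0 := fun z =>
    Finset.sum_eq_zero fun l _ => by rw [hcon, mul_zero]
  have h1 : bB α x * 1 = 0 := by
    rw [mul_one]
    fin_cases j
    · have h2 := h0 (A 0)
      rw [(hA x).1] at h2
      simp only [Fin.val_zero, Nat.sub_zero, pow_zero, mul_one] at h2
      exact (mul_eq_zero.1 h2).resolve_right (pow_ne_zero _ hj)
    · have h2 := h0 (A ⟨p, by omega⟩)
      rw [(hA x).1] at h2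
      simp only [Nat.sub_self, pow_zero, one_mul] at h2
      exact (mul_eq_zero.1 h2).resolve_right (pow_ne_zero _ hj)
  have h2 : bB β x * 1 = 0 := by
    rw [mul_one]
    fin_cases j
    · have h2 := h0 (A' 0)
      rw [(hA x).2] at h2
      simp only [Fin.val_zero, Nat.sub_zero, pow_zero, mul_one] at h2
      exact (mul_eq_zero.1 h2).resolve_right (pow_ne_zero _ hj)
    · have h2 := h0 (A' ⟨q, by omega⟩)
      rw [(hA x).2] at h2
      simp only [Nat.sub_self, pow_zero, one_mul] at h2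
      exact (mul_eq_zero.1 h2).resolve_right (pow_ne_zero _ hj)
  exact one_ne_zero (bezoutB h.no hj' h1 h2)

/-- A section of a scroll lying on the hypersurface is an embedded rational curve. -/
theorem Data.exists_curve [IsAlgClosed k] (h : Data c a b α β) (f : Form 4 k 3)
    (h0 : ∀ s t : k, MvPolynomial.eval (cpt c s t) f.1 = 0) :
    ∃ i : CohB1.ProjSpace 1 k ⟶ Xf f, IsPar f d c i ∧ IsClosedImmersion i := by
  obtain ⟨i, hi⟩ := SepCl.exists_isPar f h.nz h0
  exact ⟨i, hi, SepCl.isClosedImmersion_of_sep f h.sep hi⟩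

end

end K483.ScrollSep
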