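import Groth.Agent.Fano.K483.SkewR
import Groth.Agent.Fano.K483.ScrollSep
import Groth.Agent.Fano.K483.LineConf
import Groth.Agent.Fano.K714.JacSm
import Groth.Agent.Fano.K714.ConicIrr2

/-!
# Existence of smooth rational quartics on a smooth cubic threefold

* `exists_comb`: `α a + β b` as a parametrised curve.
* `exists_nu`: choice of the parametrisation of a line such that corresponding points are not joined by lines of the
  threefold.
* `exists_quartic`: a smooth cubic threefold contains a smooth rational quartic: for two skew lines with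
  parametrisations `a`, `b` it is the curve `T(a,b,b) a - T(a,a,b) b`.
-/

set_option autoImplicit false
universe u

open CategoryTheory AlgebraicGeometry

namespace K483.RatEx

open K656.Trilin Module K714.Surf K483.SkewR K483.ScrollSep K798.TwBin Groth.Agent.Fano.K714.Rat LefPen
open Groth.Agent.Lefpen.H703.ZOpen

variable {k : Type u} [Field k]

/-- `α a + β b` as a parametrised curve. -/
theorem exists_comb [Infinite k] {d p q e₁ e₂ : ℕ} (h₁ : e₁ + p = d) (h₂ : e₂ + q = d) (α : Fin (e₁ + 1) → k)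
    (a : Fin (p + 1) → Fin 5 → k) (β : Fin (e₂ + 1) → k) (b : Fin (q + 1) → Fin 5 → k) :
    ∃ c : Fin (d + 1) → Fin 5 → k, ∀ s t : k, cpt c s t = bv α s t • cpt a s t + bv β s t • cpt b s t := by
  have hF : ∀ j : Fin 5, (bp α * (bform a j).1 + bp β * (bform b j).1).IsHomogeneous d := by
    intro j
    have h3 := (isHomogeneous_bp α).mul ((MvPolynomial.mem_homogeneousSubmodule _ _).1 (bform a j).2)
    have h4 := (isHomogeneous_bp β).mul ((MvPolynomial.mem_homogeneousSubmodule _ _).1 (bform b j).2)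
    rw [h₁] at h3
    rw [h₂] at h4
    exact h3.add h4
  obtain ⟨c, hc⟩ := K475.RatAlg.exists_bform (k := k) (d := d)
    fun j => ⟨_, (MvPolynomial.mem_homogeneousSubmodule _ _).2 (hF j)⟩
  refine ⟨c, fun s t => ?_⟩
  funext j
  have h5 := eval_bform c j ![s, t]
  rw [hc j] at h5
  simp only [map_add, map_mul, eval_bp, eval_bform, Matrix.cons_val_zero, Matrix.cons_val_one] at h5
  rw [← h5]
  simp

variable [IsAlgClosed k] [CharZero k] {T : (Fin 5 → k) →ₗ[k] (Fin 5 → k) →ₗ[k] (Fin 5 → k) →ₗ[k] k}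

theorem finite_bad (hT : IsSym3 T) (hsm : SmoothOn T ⊤) {p l y : Fin 5 → k} (hpl : OnX T p l) (hy : T y y y = 0)
    (hli : LinearIndependent k ![p, l, y]) :
    {τ : k | T (τ • p + l) y y = 0 ∧ T (τ • p + l) (τ • p + l) y = 0}.Finite := by
  by_contra hinf
  have hinf' : {τ : k | T (τ • p + l) y y = 0 ∧ T (τ • p + l) (τ • p + l) y = 0}.Infinite := hinf
  have e : T l p y = T p l y := (hT.s12 _ _ _).symm
  have h1 : (Polynomial.C (T p y y) * Polynomial.X + Polynomial.C (T l y y) : Polynomial k) = 0 := by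
    refine Polynomial.eq_zero_of_infinite_isRoot _ (hinf'.mono fun τ hτ => ?_)
    have h := hτ.1
    simp only [map_add, map_smul, LinearMap.add_apply, LinearMap.smul_apply, smul_eq_mul] at h
    change Polynomial.eval τ _ = 0
    simp only [Polynomial.eval_add, Polynomial.eval_mul, Polynomial.eval_C, Polynomial.eval_X]
    linear_combination h
  have h2 : (Polynomial.C (T p p y) * Polynomial.X ^ 2 + Polynomial.C (2 * T p l y) * Polynomial.X +
      Polynomial.C (T l l y) : Polynomial k) = 0 := by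
    refine Polynomial.eq_zero_of_infinite_isRoot _ (hinf'.mono fun τ hτ => ?_)
    have h := hτ.2
    simp only [map_add, map_smul, LinearMap.add_apply, LinearMap.smul_apply, smul_eq_mul, e] at h
    change Polynomial.eval τ _ = 0
    simp only [Polynomial.eval_add, Polynomial.eval_mul, Polynomial.eval_C, Polynomial.eval_X,
      Polynomial.eval_pow]
    linear_combination h
  have a0 := congrArg (fun P => Polynomial.coeff P 0) h1
  have a1 := congrArg (fun P => Polynomial.coeff P 1) h1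
  simp [Polynomial.coeff_X, Polynomial.coeff_C] at a0 a1
  have b0 := congrArg (fun P => Polynomial.coeff P 0) h2
  have b1 := congrArg (fun P => Polynomial.coeff P 1) h2
  have b2 := congrArg (fun P => Polynomial.coeff P 2) h2
  simp [Polynomial.coeff_X, Polynomial.coeff_C, Polynomial.coeff_X_pow] at b0 b1 b2
  refine no_plane3 hT hsm (p := ![p, l, y]) hli fun u v s => ?_
  have e1 : u • (![p, l, y] : Fin 3 → _) 0 + v • (![p, l, y] : Fin 3 → _) 1 + s • (![p, l, y] : Fin 3 → _) 2 =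
      (1 : k) • (u • p + v • l) + s • y := by
    simp only [Matrix.cons_val]
    module
  rw [e1, hT.cube_smul_add_smul, hpl, hy]
  simp only [map_add, map_smul, LinearMap.add_apply, LinearMap.smul_apply, smul_eq_mul, e, a0, a1, b0, b1, b2]
  ring

/-- Choice of the parametrisation. -/
theorem exists_nu (hT : IsSym3 T) (hsm : SmoothOn T ⊤) {p l : Fin 5 → k} (hpl : OnX T p l) (y : k → Fin 5 → k)
    (hy : ∀ s, T (y s) (y s) (y s) = 0) (hli : ∀ s, LinearIndependent k ![p, l, y s])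
    (hZ : {s : k | RL T p l (y s) = 0}.Finite) :
    ∃ ν : k, ∀ s : k, T ((s + ν) • p + l) (y s) (y s) = 0 → T ((s + ν) • p + l) ((s + ν) • p + l) (y s) = 0 →
      False := by
  have hinf : Infinite k := IsAlgClosed.instInfinite
  have hfin : (⋃ s ∈ {s : k | RL T p l (y s) = 0}, (fun τ => τ - s) ''
      {τ : k | T (τ • p + l) (y s) (y s) = 0 ∧ T (τ • p + l) (τ • p + l) (y s) = 0}).Finite :=
    hZ.biUnion fun s _ => (finite_bad hT hsm hpl (hy s) (hli s)).image _
  obtain ⟨ν, hν⟩ := hfin.exists_notMem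
  refine ⟨ν, fun s h1 h2 => hν ?_⟩
  refine Set.mem_iUnion₂.2 ⟨s, ?_, s + ν, ⟨h1, h2⟩, by ring⟩
  exact RL_eq_zero hT (u := s + ν) (v := 1) (Or.inr one_ne_zero) (by rw [one_smul]; exact h2)
    (by rw [one_smul]; exact h1)

omit [IsAlgClosed k] [CharZero k] in
theorem pf_RL {X : Type u} [AddCommGroup X] [Module k X] (p l : Fin 5 → k) {f : X → Fin 5 → k}
    (hf : IsPolyMap k f) : IsPolyFun k (fun x => RL T p l (f x)) := by
  have hc : ∀ z : Fin 5 → k, IsPolyMap k (fun _ : X => z) := fun z => isPolyMap_const z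
  have h1 : ∀ z w, IsPolyFun k (fun x => T z w (f x)) := fun z w => K714.ConicIrr.pf_T (hc z) (hc w) hf
  have h2 : ∀ z, IsPolyFun k (fun x => T z (f x) (f x)) := fun z => K714.ConicIrr.pf_T (hc z) hf hf
  exact pf_add (pf_sub (pf_mul (h1 p p) (pf_pow (h2 l) 2))
    (pf_mul (pf_const_mul 2 (h1 p l)) (pf_mul (h2 p) (h2 l)))) (pf_mul (h1 l l) (pf_pow (h2 p) 2))

omit [IsAlgClosed k] [CharZero k] in
theorem pm_lin (n₀ n₁ : Fin 5 → k) : IsPolyMap k (fun x : k × k => x.1 • n₀ + x.2 • n₁) :=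
  isPolyMap_linear (((LinearMap.fst k k k).smulRight n₀) + ((LinearMap.snd k k k).smulRight n₁))

/-- A basis of the second line none of whose members is joined to the first line. -/
theorem exists_good_basis (hT : IsSym3 T) (hsm : SmoothOn T ⊤) {a₀ a₁ n₀ n₁ : Fin 5 → k}
    (hli : LinearIndependent k ![a₀, a₁, n₀, n₁]) (ha : OnX T a₀ a₁) (hn : OnX T n₀ n₁) :
    ∃ m₀ m₁ : Fin 5 → k, LinearIndependent k ![a₀, a₁, m₀, m₁] ∧ OnX T m₀ m₁ ∧ RL T a₀ a₁ m₀ ≠ 0 ∧
      RL T a₀ a₁ m₁ ≠ 0 := by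
  have hinf : Infinite k := IsAlgClosed.instInfinite
  obtain ⟨s, t, hst⟩ := exists_RL_ne_zero hT hsm hli ha hn
  have hli' := li4.1 hli
  obtain ⟨⟨s', t'⟩, h1⟩ := exists_mul_ne_zero (k := k) (V := k × k)
    (f := fun x => RL T a₀ a₁ (x.1 • n₀ + x.2 • n₁)) (g := fun x => s * x.2 - t * x.1)
    (pf_RL a₀ a₁ (pm_lin n₀ n₁))
    (pf_sub (pf_const_mul s (isPolyFun_linear' (LinearMap.snd k k k)))
      (pf_const_mul t (isPolyFun_linear' (LinearMap.fst k k k)))) ⟨(s, t), hst⟩ (by
      by_cases hs : s = 0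
      · refine ⟨(1, 0), ?_⟩
        have ht : t ≠ 0 := by
          rintro rfl
          apply hst
          rw [hs, zero_smul, zero_smul, add_zero, RL]
          simp
        simpa using ht
      · exact ⟨(0, 1), by simpa using hs⟩)
  have h2 := left_ne_zero_of_mul h1
  have h3 := right_ne_zero_of_mul h1
  refine ⟨s • n₀ + t • n₁, s' • n₀ + t' • n₁, li4.2 ?_, hn.basis _ _ _ _, hst, h2⟩
  intro x y z w h0
  obtain ⟨x0, x1, x2, x3⟩ := hli' x y (z * s + w * s') (z * t + w * t') (by rw [← h0]; module)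
  refine ⟨x0, x1, ?_, ?_⟩
  · exact (mul_eq_zero.1 (show z * (s * t' - t * s') = 0 by linear_combination t' * x2 - s' * x3)).resolve_right h3
  · exact (mul_eq_zero.1 (show w * (s * t' - t * s') = 0 by linear_combination s * x3 - t * x2)).resolve_right h3

omit [IsAlgClosed k] [CharZero k] in
theorem cpt_one (a b : Fin 5 → k) (s t : k) : cpt (d := 1) ![a, b] s t = s • a + t • b := by
  rw [cpt, Fin.sum_univ_two]
  simp

/-- **Existence of rational quartics**, algebraic form. -/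
theorem exists_quartic_data (hT : IsSym3 T) (hsm : SmoothOn T ⊤) {a₀ a₁ n₀ n₁ : Fin 5 → k}
    (hli : LinearIndependent k ![a₀, a₁, n₀, n₁]) (ha : OnX T a₀ a₁) (hn : OnX T n₀ n₁) :
    ∃ (c : Fin 5 → Fin 5 → k) (a b : Fin 2 → Fin 5 → k) (α β : Fin 4 → k),
      Data (d := 4) (p := 1) (q := 1) (e₁ := 2) (e₂ := 2) c a b α β ∧
      ∀ s t : k, T (cpt (d := 4) c s t) (cpt (d := 4) c s t) (cpt (d := 4) c s t) = 0 := by
  have hinf : Infinite k := IsAlgClosed.instInfinite
  obtain ⟨n₀, n₁, hli, hn, hR0, hR1⟩ := exists_good_basis hT hsm hli ha hn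
  have hli' := li4.1 hli
  obtain ⟨P, hP⟩ := pf_line (k := k) (V := Fin 5 → k) (f := fun y => RL T a₀ a₁ y)
    (pf_RL a₀ a₁ isPolyMap_id) n₁ (n₀ + n₁)
  have hP0 : P ≠ 0 := by
    rintro rfl
    apply hR1
    have := hP 0
    simpa using this.symm
  have hPe : ∀ s, P.eval s = RL T a₀ a₁ (s • n₀ + n₁) := fun s => by
    rw [hP]; congr 1; module
  obtain ⟨ν, hν⟩ := exists_nu hT hsm ha (fun s => s • n₀ + n₁) (fun s => by simpa using hn s 1) (fun s => by
    rw [Fintype.linearIndependent_iff]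
    intro g hg
    rw [Fin.sum_univ_three] at hg
    obtain ⟨x0, x1, x2, x3⟩ := hli' (g 0) (g 1) (g 2 * s) (g 2) (by
      rw [← hg]; simp only [Matrix.cons_val]; module)
    intro i
    fin_cases i
    exacts [x0, x1, x3]) (by
    refine (Polynomial.finite_setOfPred_isRoot hP0).subset fun s hs => ?_
    change P.eval s = 0
    rw [hPe]; exact hs)
  set A₁ : Fin 5 → k := a₁ + ν • a₀ with hA₁
  let α : Fin 4 → k := ![T a₀ n₀ n₀, 2 * T a₀ n₀ n₁ + T A₁ n₀ n₀, T a₀ n₁ n₁ + 2 * T A₁ n₀ n₁, T A₁ n₁ n₁]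
  let β : Fin 4 → k := ![-(T a₀ a₀ n₀), -(2 * T a₀ A₁ n₀ + T a₀ a₀ n₁), -(T A₁ A₁ n₀ + 2 * T a₀ A₁ n₁),
    -(T A₁ A₁ n₁)]
  have hα : ∀ s t : k, bv (d := 3) α s t = T (s • a₀ + t • A₁) (s • n₀ + t • n₁) (s • n₀ + t • n₁) := by
    intro s t
    have e1 : ∀ z, T z n₁ n₀ = T z n₀ n₁ := fun z => hT.s23 _ _ _
    rw [bv, Fin.sum_univ_four]
    simp only [α, Matrix.cons_val, Fin.val_zero, Fin.val_one, Fin.val_two, map_add, map_smul, LinearMap.add_apply,
      LinearMap.smul_apply, smul_eq_mul, e1]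
    have h6 : ((3 : Fin (3 + 1)) : ℕ) = 3 := rfl
    rw [h6]
    ring
  have hβ : ∀ s t : k, bv (d := 3) β s t = -(T (s • a₀ + t • A₁) (s • a₀ + t • A₁) (s • n₀ + t • n₁)) := by
    intro s t
    have e1 : ∀ z, T A₁ a₀ z = T a₀ A₁ z := fun z => (hT.s12 _ _ _).symm
    rw [bv, Fin.sum_univ_four]
    simp only [β, Matrix.cons_val, Fin.val_zero, Fin.val_one, Fin.val_two]
    rw [hT.sq_smul_add_smul]
    simp only [map_add, map_smul, smul_eq_mul]
    have h6 : ((3 : Fin (3 + 1)) : ℕ) = 3 := rfl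
    rw [h6]
    ring
  have haA : ∀ s t : k, s • a₀ + t • A₁ = (s + t * ν) • a₀ + t • a₁ := fun s t => by rw [hA₁]; module
  obtain ⟨c, hc⟩ := exists_comb (k := k) (d := 4) (p := 1) (q := 1) (e₁ := 3) (e₂ := 3) rfl rfl α ![a₀, A₁] β
    ![n₀, n₁]
  refine ⟨c, ![a₀, A₁], ![n₀, n₁], α, β, ⟨le_rfl, le_rfl, hc, ?_, ?_⟩, fun s t => ?_⟩
  · rw [Fintype.linearIndependent_iff]
    intro g hg
    rw [Fintype.sum_sum_type, Fin.sum_univ_two, Fin.sum_univ_two] at hg
    simp only [Sum.elim_inl, Sum.elim_inr, Matrix.cons_val_zero, Matrix.cons_val_one] at hg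
    obtain ⟨x0, x1, x2, x3⟩ := hli' (g (Sum.inl 0) + g (Sum.inl 1) * ν) (g (Sum.inl 1)) (g (Sum.inr 0))
      (g (Sum.inr 1)) (by rw [← hg, hA₁]; module)
    rw [x1, zero_mul, add_zero] at x0
    rintro (i | i) <;> fin_cases i
    exacts [x0, x1, x2, x3]
  · intro s t hst h1 h2
    rw [hα] at h1
    rw [hβ, neg_eq_zero] at h2
    by_cases ht : t = 0
    · have hs : s ≠ 0 := by tauto
      rw [ht, zero_smul, add_zero, zero_smul, add_zero] at h1 h2
      simp only [map_smul, LinearMap.smul_apply, smul_eq_mul] at h1 h2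
      have h3 : T a₀ n₀ n₀ = 0 := by
        have : s * (s * (s * T a₀ n₀ n₀)) = 0 := by linear_combination h1
        exact (mul_eq_zero.1 ((mul_eq_zero.1 ((mul_eq_zero.1 this).resolve_left hs)).resolve_left hs)).resolve_left hs
      have h4 : T a₀ a₀ n₀ = 0 := by
        have : s * (s * (s * T a₀ a₀ n₀)) = 0 := by linear_combination h2
        exact (mul_eq_zero.1 ((mul_eq_zero.1 ((mul_eq_zero.1 this).resolve_left hs)).resolve_left hs)).resolve_left hs
      refine hR0 (RL_eq_zero hT (u := 1) (v := 0) (Or.inl one_ne_zero) ?_ ?_)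
      · rw [one_smul, zero_smul, add_zero]; exact h4
      · rw [one_smul, zero_smul, add_zero]; exact h3
    · have e1 : s • a₀ + t • A₁ = t • ((s / t + ν) • a₀ + a₁) := by
        rw [haA, smul_add, smul_smul]
        congr 2
        field_simp
      have e2 : s • n₀ + t • n₁ = t • ((s / t) • n₀ + n₁) := by
        rw [smul_add, smul_smul]
        congr 2
        field_simp
      rw [e1, e2] at h1 h2
      simp only [map_smul, LinearMap.smul_apply, smul_eq_mul, mul_eq_zero, ht, false_or] at h1 h2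
      exact hν (s / t) h1 h2
  · rw [hc, cpt_one, cpt_one, hT.cube_smul_add_smul, hn]
    have h3 : T (s • a₀ + t • A₁) (s • a₀ + t • A₁) (s • a₀ + t • A₁) = 0 := by
      rw [haA]; exact ha _ _
    rw [h3, hβ, hα]
    ring

/-- **Existence of smooth rational quartics** on a smooth cubic threefold. -/
theorem exists_quartic (f : Form 4 k 3) (hf : f ≠ 0) [hs : Smooth (ps f)] :
    ∃ (c : Fin 5 → Fin 5 → k) (i : CohB1.ProjSpace 1 k ⟶ Xf f), IsPar f 4 c i ∧ IsClosedImmersion i := by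
  have hT := tri_sym (k := k) f.1
  have hsm := Groth.Agent.Fano.K714.JacSm.smoothOn_tri f hf hs
  have hfh : f.1.IsHomogeneous 3 := (MvPolynomial.mem_homogeneousSubmodule _ _).1 f.2
  obtain ⟨W, M, N, -, -, -, hM, hN, -, -, -, -, -, hMN, -, -, -, -⟩ := LineConf.exists_conf hT hsm
  obtain ⟨a₀, a₁, h0, h1, hli, -⟩ := LineConf.exists_basis hM.1
  obtain ⟨n₀, n₁, h2, h3, hli', -⟩ := LineConf.exists_basis hN.1
  obtain ⟨c, a, b, α, β, hd, hc⟩ := exists_quartic_data hT hsm (LineConf.li_of_disj hMN h0 h1 h2 h3 hli hli')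
    (fun u v => hM.2 _ (M.add_mem (M.smul_mem _ h0) (M.smul_mem _ h1)))
    (fun u v => hN.2 _ (N.add_mem (N.smul_mem _ h2) (N.smul_mem _ h3)))
  obtain ⟨i, h4, h5⟩ := hd.exists_curve f fun s t => by rw [← tri_diag hfh]; exact hc s t
  exact ⟨c, i, h4, h5⟩

end K483.RatEx
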