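import Groth.Agent.Fano.K483.QuartEx

/-!
# Existence of smooth rational quintics on a smooth cubic threefold

* `exists_quintic`: a smooth cubic threefold contains a smooth rational quintic: for a line `A` and a conic `B` on
  the threefold meeting a common third line it is the curve `(T(A,B,B) A - T(A,A,B) B) / t`.
-/

set_option autoImplicit false
universe u

open CategoryTheory AlgebraicGeometry

namespace K483.RatEx

open K656.Trilin Module K714.Surf K714.ConicIrr K483.SkewR K483.ScrollSep K798.TwBin Groth.Agent.Fano.K714.Rat LefPen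
open Groth.Agent.Lefpen.H703.ZOpen

variable {k : Type u} [Field k]

theorem li5 {V : Type u} [AddCommGroup V] [Module k V] {a b c d e : V} : LinearIndependent k ![a, b, c, d, e] ↔
    ∀ x y z w v : k, x • a + y • b + z • c + w • d + v • e = 0 → x = 0 ∧ y = 0 ∧ z = 0 ∧ w = 0 ∧ v = 0 := by
  rw [Fintype.linearIndependent_iff]
  constructor
  · intro h x y z w v h0
    have := h ![x, y, z, w, v] (by rw [Fin.sum_univ_five]; exact h0)
    exact ⟨this 0, this 1, this 2, this 3, this 4⟩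
  · intro h g hg
    rw [Fin.sum_univ_five] at hg
    obtain ⟨x0, x1, x2, x3, x4⟩ := h (g 0) (g 1) (g 2) (g 3) (g 4) hg
    intro i
    fin_cases i
    exacts [x0, x1, x2, x3, x4]

variable [IsAlgClosed k] [CharZero k] {T : (Fin 5 → k) →ₗ[k] (Fin 5 → k) →ₗ[k] (Fin 5 → k) →ₗ[k] k}

omit [IsAlgClosed k] [CharZero k] in
theorem RL_smul (p l y : Fin 5 → k) (c : k) : RL T p l (c • y) = c ^ 5 * RL T p l y := by
  simp only [RL, map_smul, LinearMap.smul_apply, smul_eq_mul]
  ring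

omit [IsAlgClosed k] in
/-- The equations of a line. -/
theorem onX_eqs (hT : IsSym3 T) {x y : Fin 5 → k} (h : OnX T x y) :
    T x x x = 0 ∧ T x x y = 0 ∧ T x y y = 0 ∧ T y y y = 0 := by
  have h1 := h 1 0
  have h2 := h 0 1
  have h3 := h 1 1
  have h4 := h 1 (-1)
  rw [hT.cube_smul_add_smul] at h1 h2 h3 h4
  have h5 : T x x x = 0 := by linear_combination h1
  have h6 : T y y y = 0 := by linear_combination h2
  have h7 : (6 : k) ≠ 0 := by norm_num
  refine ⟨h5, ?_, ?_, h6⟩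
  · refine (mul_eq_zero.1 (show (6 : k) * T x x y = 0 by linear_combination h3 - h4 - 2 * h6)).resolve_left h7
  · refine (mul_eq_zero.1 (show (6 : k) * T x y y = 0 by linear_combination h3 + h4 - 2 * h5)).resolve_left h7

omit [IsAlgClosed k] [CharZero k] in
theorem cpt_two (c : Fin 3 → Fin 5 → k) (s t : k) : cpt (d := 2) c s t = qpt c s t := by
  have h := Fin.sum_univ_three fun m : Fin 3 => (s ^ (2 - (m : ℕ)) * t ^ (m : ℕ)) • c m
  refine h.trans ?_
  simp [qpt]

/-- The construction after the choices. -/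
theorem data_of_conic (hT : IsSym3 T) {p q : Fin 5 → k} {c : Fin 3 → Fin 5 → k}
    (hli : LinearIndependent k ![p, q, c 0, c 1, c 2]) (hpq : OnX T p q) (hpc : OnX T p (c 0))
    (hc : ∀ s t : k, T (qpt c s t) (qpt c s t) (qpt c s t) = 0)
    (h0 : 2 * T p (c 0) (c 1) + T q (c 0) (c 0) = 0 → T p p (c 1) + 2 * T p q (c 0) = 0 → False)
    (hno : ∀ s : k, T (s • p + q) (qpt c s 1) (qpt c s 1) = 0 →
      T (s • p + q) (s • p + q) (qpt c s 1) = 0 → False) :
    ∃ (C : Fin 6 → Fin 5 → k) (a : Fin 2 → Fin 5 → k) (b : Fin 3 → Fin 5 → k) (α : Fin 5 → k) (β : Fin 4 → k),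
      Data (d := 5) (p := 1) (q := 2) (e₁ := 3) (e₂ := 2) C a b α β ∧
      ∀ s t : k, T (cpt (d := 5) C s t) (cpt (d := 5) C s t) (cpt (d := 5) C s t) = 0 := by
  have hinf : Infinite k := IsAlgClosed.instInfinite
  have hli' := li5.1 hli
  obtain ⟨-, e1, -, -⟩ := onX_eqs hT hpc
  obtain ⟨-, -, e2, -⟩ := onX_eqs hT hpc
  set c0 := c 0 with hc0
  set c1 := c 1 with hc1
  set c2 := c 2 with hc2
  have s01 : ∀ z, T z c1 c0 = T z c0 c1 := fun z => hT.s23 _ _ _
  have s02 : ∀ z, T z c2 c0 = T z c0 c2 := fun z => hT.s23 _ _ _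
  have s12 : ∀ z, T z c2 c1 = T z c1 c2 := fun z => hT.s23 _ _ _
  have sq : ∀ z, T q p z = T p q z := fun z => (hT.s12 _ _ _).symm
  let α : Fin 5 → k := ![2 * T p c0 c1 + T q c0 c0, 2 * T p c0 c2 + T p c1 c1 + 2 * T q c0 c1,
    2 * T p c1 c2 + 2 * T q c0 c2 + T q c1 c1, T p c2 c2 + 2 * T q c1 c2, T q c2 c2]
  let β : Fin 4 → k := ![-(T p p c1 + 2 * T p q c0), -(T p p c2 + 2 * T p q c1 + T q q c0),
    -(2 * T p q c2 + T q q c1), -(T q q c2)]
  have hα : ∀ s t : k, t * bv (d := 4) α s t = T (s • p + t • q) (qpt c s t) (qpt c s t) := by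
    intro s t
    rw [bv, Fin.sum_univ_five]
    simp only [α, Matrix.cons_val, qpt, ← hc0, ← hc1, ← hc2, map_add, map_smul, LinearMap.add_apply,
      LinearMap.smul_apply, smul_eq_mul, s01, s02, s12, e2]
    have h5 : ((0 : Fin (4 + 1)) : ℕ) = 0 := rfl
    have h6 : ((1 : Fin (4 + 1)) : ℕ) = 1 := rfl
    have h7 : ((2 : Fin (4 + 1)) : ℕ) = 2 := rfl
    have h8 : ((3 : Fin (4 + 1)) : ℕ) = 3 := rfl
    have h9 : ((4 : Fin (4 + 1)) : ℕ) = 4 := rfl
    rw [h5, h6, h7, h8, h9]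
    ring
  have hβ : ∀ s t : k, t * bv (d := 3) β s t = -(T (s • p + t • q) (s • p + t • q) (qpt c s t)) := by
    intro s t
    rw [bv, Fin.sum_univ_four, hT.sq_smul_add_smul]
    simp only [β, Matrix.cons_val, qpt, ← hc0, ← hc1, ← hc2, map_add, map_smul, smul_eq_mul, e1]
    have h5 : ((0 : Fin (3 + 1)) : ℕ) = 0 := rfl
    have h6 : ((1 : Fin (3 + 1)) : ℕ) = 1 := rfl
    have h7 : ((2 : Fin (3 + 1)) : ℕ) = 2 := rfl
    have h8 : ((3 : Fin (3 + 1)) : ℕ) = 3 := rfl
    rw [h5, h6, h7, h8]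
    ring
  obtain ⟨C, hC⟩ := exists_comb (k := k) (d := 5) (p := 1) (q := 2) (e₁ := 4) (e₂ := 3) rfl rfl α ![p, q] β c
  refine ⟨C, ![p, q], c, α, β, ⟨le_rfl, one_le_two, hC, ?_, ?_⟩, fun s t => ?_⟩
  · rw [Fintype.linearIndependent_iff]
    intro g hg
    rw [Fintype.sum_sum_type, Fin.sum_univ_two, Fin.sum_univ_three] at hg
    simp only [Sum.elim_inl, Sum.elim_inr, Matrix.cons_val_zero, Matrix.cons_val_one] at hg
    obtain ⟨x0, x1, x2, x3, x4⟩ := hli' (g (Sum.inl 0)) (g (Sum.inl 1)) (g (Sum.inr 0))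
      (g (Sum.inr 1)) (g (Sum.inr 2)) (by rw [← hg]; module)
    rintro (i | i) <;> fin_cases i
    exacts [x0, x1, x2, x3, x4]
  · intro s t hst h1 h2
    by_cases ht : t = 0
    · have hs : s ≠ 0 := by tauto
      rw [ht, bv, Fin.sum_univ_five] at h1
      rw [ht, bv, Fin.sum_univ_four] at h2
      simp [α, hs] at h1
      simp [β, hs] at h2
      exact h0 h1 (by linear_combination -h2)
    · have h3 := hα s t
      have h4 := hβ s t
      rw [h1, mul_zero] at h3
      rw [h2, mul_zero] at h4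
      have h5 : s • p + t • q = t • ((s / t) • p + q) := by
        rw [smul_add, smul_smul]
        congr 2
        field_simp
      have h6 : qpt c s t = t ^ 2 • qpt c (s / t) 1 := by
        simp only [qpt, smul_add, smul_smul]
        congr 2
        · congr 2
          field_simp
        · congr 1
          field_simp
        · ring
      rw [h5, h6] at h3 h4
      simp only [map_smul, LinearMap.smul_apply, smul_eq_mul] at h3 h4
      have h3' := h3.symm
      have h4' := neg_eq_zero.1 h4.symm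
      simp only [mul_eq_zero, ht, false_or, pow_eq_zero_iff, ne_eq, OfNat.ofNat_ne_zero, not_false_eq_true] at h3' h4'
      exact hno (s / t) h3' h4'
  · rw [hC, cpt_one, cpt_two, hT.cube_smul_add_smul, hc, hpq, ← neg_neg (T (s • p + t • q) (s • p + t • q) _), ← hα,
      ← hβ]
    ring

/-- The general construction: a line `⟨p, l⟩` and a conic `c` such that `⟨p, c 0⟩` is a line on the threefold. -/
theorem exists_of_conic (hT : IsSym3 T) (hsm : SmoothOn T ⊤) {p l : Fin 5 → k} {c : Fin 3 → Fin 5 → k}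
    (hli : LinearIndependent k ![p, l, c 0, c 1, c 2]) (hpl : OnX T p l) (hpc : OnX T p (c 0))
    (hc : ∀ s t : k, T (qpt c s t) (qpt c s t) (qpt c s t) = 0) {σ : k} (hσ : RL T p l (qpt c σ 1) ≠ 0) :
    ∃ (C : Fin 6 → Fin 5 → k) (a : Fin 2 → Fin 5 → k) (b : Fin 3 → Fin 5 → k) (α : Fin 5 → k) (β : Fin 4 → k),
      Data (d := 5) (p := 1) (q := 2) (e₁ := 3) (e₂ := 2) C a b α β ∧
      ∀ s t : k, T (cpt (d := 5) C s t) (cpt (d := 5) C s t) (cpt (d := 5) C s t) = 0 := by
  have hinf : Infinite k := IsAlgClosed.instInfinite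
  have hli' := li5.1 hli
  have h4 : (4 : k) ≠ 0 := by norm_num
  have h2 : (2 : k) ≠ 0 := by norm_num
  obtain ⟨f1, f2, -, -⟩ := onX_eqs hT hpl
  obtain ⟨-, e1, e2, e3⟩ := onX_eqs hT hpc
  have hc' : ![c 0, c 1, c 2] = c := by funext i; fin_cases i <;> rfl
  obtain ⟨-, g1, -⟩ := con_eqs (A := c 0) (B := c 1) (C := c 2) hT (by rw [hc']; exact hc)
  -- the sign
  obtain ⟨ε, hε, h0⟩ : ∃ ε : k, ε ≠ 0 ∧ (2 * T p (c 0) (c 1) + ε * T l (c 0) (c 0) = 0 →
      T p p (c 1) + 2 * (ε * T p l (c 0)) = 0 → False) := by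
    by_cases h1 : 2 * T p (c 0) (c 1) + T l (c 0) (c 0) = 0 ∧ T p p (c 1) + 2 * T p l (c 0) = 0
    · refine ⟨-1, by norm_num, fun h5 h6 => ?_⟩
      obtain ⟨h7, h8⟩ := h1
      have a1 : T p (c 0) (c 1) = 0 :=
        (mul_eq_zero.1 (show (4 : k) * T p (c 0) (c 1) = 0 by linear_combination h5 + h7)).resolve_left h4
      have a2 : T l (c 0) (c 0) = 0 := by linear_combination h7 - 2 * a1
      have a3 : T p l (c 0) = 0 :=
        (mul_eq_zero.1 (show (4 : k) * T p l (c 0) = 0 by linear_combination h8 - h6)).resolve_left h4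
      have a4 : T p p (c 1) = 0 := by linear_combination h8 - 2 * a3
      refine no_tangent hT hsm (h := ![p, c 0, l, c 1]) (z₀ := p) (z₁ := c 0) ?_ ?_ ?_ ?_ ?_
      · rw [li4]
        intro x y z w hxy
        obtain ⟨x0, x1, x2, x3, x4⟩ := hli' x z y w 0 (by rw [← hxy]; module)
        exact ⟨x0, x2, x1, x3⟩
      · rw [LinearIndependent.pair_iff]
        intro x y hxy
        obtain ⟨x0, x1, x2, x3, x4⟩ := hli' x 0 y 0 0 (by rw [← hxy]; module)
        exact ⟨x0, x2⟩
      · intro i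
        fin_cases i
        exacts [f1, e1, f2, a4]
      · intro i
        fin_cases i
        · exact (hT.s23 _ _ _).trans e1
        · exact e2
        · exact (hT.s23 _ _ _).trans a3
        · exact a1
      · intro i
        fin_cases i
        · exact (hT.rot' _ _ _).trans e2
        · exact e3
        · exact (hT.rot' _ _ _).trans a2
        · exact g1
    · exact ⟨1, one_ne_zero, fun h5 h6 => h1 ⟨by rw [one_mul] at h5; exact h5, by rw [one_mul] at h6; exact h6⟩⟩
  -- the shift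
  have hpl' : OnX T p (ε • l) := by
    have := hpl.basis 1 0 0 ε
    simpa using this
  have hRe : ∀ y, RL T p (ε • l) y = ε ^ 2 * RL T p l y := fun y => by
    have := RL_basis hT p l y 1 0 0 ε
    simpa using this
  obtain ⟨P, hP⟩ : ∃ P : Polynomial k, ∀ s, P.eval s = RL T p l (qpt c s 1) := by
    let L : (Fin 5 → k) → Polynomial k := fun z => Polynomial.C (T z z (c 0))
    let P2 : (Fin 5 → k) → (Fin 5 → k) → Polynomial k := fun z w =>
      Polynomial.C (T z w (c 0)) * Polynomial.X ^ 2 + Polynomial.C (T z w (c 1)) * Polynomial.X +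
        Polynomial.C (T z w (c 2))
    let P4 : (Fin 5 → k) → Polynomial k := fun z =>
      Polynomial.C (T z (c 0) (c 0)) * Polynomial.X ^ 4 + Polynomial.C (2 * T z (c 0) (c 1)) * Polynomial.X ^ 3 +
        Polynomial.C (2 * T z (c 0) (c 2) + T z (c 1) (c 1)) * Polynomial.X ^ 2 +
        Polynomial.C (2 * T z (c 1) (c 2)) * Polynomial.X + Polynomial.C (T z (c 2) (c 2))
    have h6 : ∀ z w s, (P2 z w).eval s = T z w (qpt c s 1) := fun z w s => by
      simp only [P2, Polynomial.eval_add, Polynomial.eval_mul, Polynomial.eval_C, Polynomial.eval_X,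
        Polynomial.eval_pow, qpt, map_add, map_smul, smul_eq_mul]
      ring
    have h7 : ∀ z s, (P4 z).eval s = T z (qpt c s 1) (qpt c s 1) := fun z s => by
      have i1 : T z (c 1) (c 0) = T z (c 0) (c 1) := hT.s23 _ _ _
      have i2 : T z (c 2) (c 0) = T z (c 0) (c 2) := hT.s23 _ _ _
      have i3 : T z (c 2) (c 1) = T z (c 1) (c 2) := hT.s23 _ _ _
      simp only [P4, Polynomial.eval_add, Polynomial.eval_mul, Polynomial.eval_C, Polynomial.eval_X,
        Polynomial.eval_pow, qpt, map_add, map_smul, LinearMap.add_apply, LinearMap.smul_apply, smul_eq_mul, i1,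
        i2, i3]
      ring
    refine ⟨P2 p p * P4 l ^ 2 - 2 * P2 p l * (P4 p * P4 l) + P2 l l * P4 p ^ 2, fun s => ?_⟩
    simp only [Polynomial.eval_add, Polynomial.eval_sub, Polynomial.eval_mul, Polynomial.eval_pow, h6, h7,
      Polynomial.eval_ofNat, RL]
  have hP0 : P ≠ 0 := by
    rintro rfl
    apply hσ
    rw [← hP, Polynomial.eval_zero]
  obtain ⟨ν, hν⟩ := exists_nu hT hsm hpl' (fun s => qpt c s 1) (fun s => hc s 1) (fun s => by
    rw [lin3]
    intro x y z h0
    obtain ⟨x0, x1, x2, x3, x4⟩ := hli' x (y * ε) (z * s ^ 2) (z * s) z (by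
      rw [← h0]; simp only [qpt]; module)
    exact ⟨x0, (mul_eq_zero.1 x1).resolve_right hε, x4⟩) (by
    refine (Polynomial.finite_setOfPred_isRoot hP0).subset fun s hs => ?_
    change P.eval s = 0
    have hs' : RL T p (ε • l) (qpt c s 1) = 0 := hs
    rw [hRe] at hs'
    rw [hP]
    exact (mul_eq_zero.1 hs').resolve_left (pow_ne_zero _ hε))
  refine data_of_conic hT (p := p) (q := ε • l + ν • p) (c := c) ?_ ?_ hpc hc ?_ ?_
  · rw [li5]
    intro x y z w v hxy
    obtain ⟨x0, x1, x2, x3, x4⟩ := hli' (x + y * ν) (y * ε) z w v (by rw [← hxy]; module)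
    have hy := (mul_eq_zero.1 x1).resolve_right hε
    rw [hy, zero_mul, add_zero] at x0
    exact ⟨x0, hy, x2, x3, x4⟩
  · have := hpl.basis 1 0 ν ε
    rw [one_smul, zero_smul, add_zero, add_comm (ν • p)] at this
    exact this
  · intro h5 h6
    simp only [map_add, map_smul, LinearMap.add_apply, LinearMap.smul_apply, smul_eq_mul] at h5 h6
    exact h0 (by linear_combination h5 - ν * e2) (by linear_combination h6 - 2 * ν * e1)
  · intro s h5 h6
    have e : s • p + (ε • l + ν • p) = (s + ν) • p + ε • l := by module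
    rw [e] at h5 h6
    exact hν s h5 h6

/-- **Existence of rational quintics**, algebraic form: `⟨p, m⟩`, `⟨a₀, a₁⟩`, `⟨p + a₀, m + a₁⟩` are disjoint lines of
a hyperplane section and `⟨p, l⟩` is a line not contained in this section. -/
theorem exists_quintic_data (hT : IsSym3 T) (hsm : SmoothOn T ⊤) {p m a₀ a₁ l : Fin 5 → k}
    (hli : LinearIndependent k ![p, m, a₀, a₁, l]) (hM : OnX T p m) (hM' : OnX T a₀ a₁)
    (hN : OnX T (p + a₀) (m + a₁)) (hL : OnX T p l) :
    ∃ (C : Fin 6 → Fin 5 → k) (a : Fin 2 → Fin 5 → k) (b : Fin 3 → Fin 5 → k) (α : Fin 5 → k) (β : Fin 4 → k),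
      Data (d := 5) (p := 1) (q := 2) (e₁ := 3) (e₂ := 2) C a b α β ∧
      ∀ s t : k, T (cpt (d := 5) C s t) (cpt (d := 5) C s t) (cpt (d := 5) C s t) = 0 := by
  have hinf : Infinite k := IsAlgClosed.instInfinite
  have hli' := li5.1 hli
  obtain ⟨s₁, t₁, h1⟩ := exists_RL_ne_zero hT hsm (a₀ := a₀) (a₁ := a₁) (n₀ := p + a₀) (n₁ := m + a₁) (li4.2 (by
    intro x y z w h0
    obtain ⟨x0, x1, x2, x3, x4⟩ := hli' z w (x + z) (y + w) 0 (by rw [← h0]; module)
    rw [x0, add_zero] at x2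
    rw [x1, add_zero] at x3
    exact ⟨x2, x3, x0, x1⟩)) hM' hN
  obtain ⟨s₂, t₂, h2⟩ := exists_RL_ne_zero hT hsm (a₀ := p) (a₁ := l) (n₀ := p + a₀) (n₁ := m + a₁) (li4.2 (by
    intro x y z w h0
    obtain ⟨x0, x1, x2, x3, x4⟩ := hli' (x + z) w z w y (by rw [← h0]; module)
    rw [x2, add_zero] at x0
    exact ⟨x0, x4, x2, x3⟩)) hL hN
  have hf1 := pf_RL (T := T) a₀ a₁ (pm_lin (p + a₀) (m + a₁))
  have hf2 := pf_RL (T := T) p l (pm_lin (p + a₀) (m + a₁))
  have hf3 : IsPolyFun k (fun x : k × k => x.2) := isPolyFun_linear' (LinearMap.snd k k k)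
  have h3 := exists_mul_ne_zero hf1 hf2 ⟨(s₁, t₁), h1⟩ ⟨(s₂, t₂), h2⟩
  obtain ⟨⟨s, t⟩, h4⟩ := exists_mul_ne_zero (pf_mul hf1 hf2) hf3 h3 ⟨(0, 1), one_ne_zero⟩
  have ht : t ≠ 0 := right_ne_zero_of_mul h4
  have hR2 : RL T p l (s • (p + a₀) + t • (m + a₁)) ≠ 0 := right_ne_zero_of_mul (left_ne_zero_of_mul h4)
  have hR1 : RL T a₀ a₁ (s • (p + a₀) + t • (m + a₁)) ≠ 0 := left_ne_zero_of_mul (left_ne_zero_of_mul h4)
  set a : Fin 5 → k := s • a₀ + t • a₁ with ha
  set μ : Fin 5 → k := s • p + t • m with hμ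
  have hu : s • (p + a₀) + t • (m + a₁) = μ + a := by rw [ha, hμ]; module
  rw [hu] at hR1 hR2
  have hab : OnX T a a₀ := by
    have := hM'.basis s t 1 0
    simpa [ha] using this
  have hpμ : OnX T p μ := by
    have := hM.basis 1 0 s t
    simpa [hμ] using this
  have huu : T (μ + a) (μ + a) (μ + a) = 0 := by rw [← hu]; exact hN s t
  -- the conic
  set u : Fin 5 → k := μ + a with hud
  have hRab : RL T a a₀ u ≠ 0 := by
    have := RL_basis hT a₀ a₁ u s t 1 0
    rw [one_smul, zero_smul, add_zero, ← ha] at this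
    rw [this]
    refine mul_ne_zero (pow_ne_zero _ ?_) hR1
    rw [mul_zero, mul_one, zero_sub]
    exact neg_ne_zero.2 ht
  have hli5 : ∀ x y z w v : k, x • p + y • l + z • μ + w • a + v • a₀ = 0 →
      x = 0 ∧ y = 0 ∧ z = 0 ∧ w = 0 ∧ v = 0 := by
    intro x y z w v h0
    obtain ⟨x0, x1, x2, x3, x4⟩ := hli' (x + z * s) (z * t) (w * s + v) (w * t) y (by
      rw [← h0, ha, hμ]; module)
    have hz := (mul_eq_zero.1 x1).resolve_right ht
    have hw := (mul_eq_zero.1 x3).resolve_right ht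
    rw [hz, zero_mul, add_zero] at x0
    rw [hw, zero_mul, zero_add] at x2
    exact ⟨x0, x4, hz, hw, x2⟩
  have hκ : T u u a = T u a a := by
    have h5 : T μ μ μ = 0 := (onX_eqs hT hpμ).2.2.2
    have h6 : T a a a = 0 := (onX_eqs hT hab).1
    have h7 : μ = (1 : k) • u + (-1 : k) • a := by rw [hud]; module
    rw [h7, hT.cube_smul_add_smul, huu, h6] at h5
    have h8 : (3 : k) ≠ 0 := by norm_num
    have h9 : (3 : k) * (T u u a - T u a a) = 0 := by linear_combination -h5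
    exact sub_eq_zero.1 ((mul_eq_zero.1 h9).resolve_left h8)
  have hD : T u a a * T u u a₀ ^ 2 - 2 * T u a a₀ * T u u a * T u u a₀ + T u a₀ a₀ * T u u a ^ 2 ≠ 0 := by
    intro h0
    apply hRab
    have i1 : T a a u = T u a a := (hT.rot' _ _ _)
    have i2 : T a₀ a₀ u = T u a₀ a₀ := (hT.rot' _ _ _)
    have i3 : T a a₀ u = T u a a₀ := (hT.rot' _ _ _)
    have i4 : T a u u = T u u a := hT.rot _ _ _
    have i5 : T a₀ u u = T u u a₀ := hT.rot _ _ _
    rw [RL, i1, i2, i3, i4, i5]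
    linear_combination h0
  have hψ : LinearIndependent k (psi T a a₀ u) := psi_indep (lin3.2 (by
    intro x y z h0
    obtain ⟨x0, x1, x2, x3, x4⟩ := hli5 0 0 z (x + z) y (by rw [← h0, hud]; module)
    rw [x2, add_zero] at x3
    exact ⟨x3, x4, x2⟩)) hD
  have hψ0 : psi T a a₀ u 0 = -(T u u a) • μ := by
    change T u u a • a - T u a a • u = _
    rw [← hκ, hud]
    module
  have hκ0 : T u u a ≠ 0 := by
    intro h0
    refine hψ.ne_zero 0 ?_
    rw [hψ0, h0, neg_zero, zero_smul]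
  have hψe : ![psi T a a₀ u 0, psi T a a₀ u 1, psi T a a₀ u 2] = psi T a a₀ u := by
    funext i; fin_cases i <;> rfl
  refine exists_of_conic hT hsm (p := p) (l := l) (c := psi T a a₀ u) (σ := -(T u u a₀) / T u u a) ?_ hL ?_
    (cube_qpt_psi hT (fun s t => hab s t) huu) ?_
  · rw [li5]
    intro x y z w v h0
    rw [hψ0] at h0
    have h1 : psi T a a₀ u 1 = T u u a • a₀ + T u u a₀ • a - (2 * T u a a₀) • u := rfl
    have h2 : psi T a a₀ u 2 = T u u a₀ • a₀ - T u a₀ a₀ • u := rfl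
    have h3 : x • p + y • l + (-(z * T u u a) - w * (2 * T u a a₀) - v * T u a₀ a₀) • μ +
        (w * T u u a₀ - w * (2 * T u a a₀) - v * T u a₀ a₀) • a + (w * T u u a + v * T u u a₀) • a₀ = 0 := by
      rw [← h0, h1, h2, hud]
      module
    obtain ⟨x0, x1, x2, x3, x4⟩ := hli5 _ _ _ _ _ h3
    have h4 : z • psi T a a₀ u 0 + w • psi T a a₀ u 1 + v • psi T a a₀ u 2 = 0 := by
      rw [hψ0]
      rw [x0, x1] at h0
      rw [← h0]
      module
    rw [← hψe, lin3] at hψ
    obtain ⟨z0, w0, v0⟩ := hψ _ _ _ h4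
    exact ⟨x0, x1, z0, w0, v0⟩
  · rw [hψ0]
    have := hpμ.basis 1 0 0 (-(T u u a))
    simpa using this
  · have h5 : T u u ((-(T u u a₀) / T u u a) • a + (1 : k) • a₀) = 0 := by
      rw [map_add, map_smul, map_smul, smul_eq_mul, smul_eq_mul, div_mul_cancel₀ _ hκ0]
      ring
    rw [qpt_psi hT, h5, zero_smul, zero_sub, ← neg_smul, RL_smul]
    refine mul_ne_zero (pow_ne_zero _ ?_) hR2
    rw [neg_ne_zero]
    intro h6
    apply hD
    have i3 : T u a₀ a = T u a a₀ := hT.s23 _ _ _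
    simp only [map_add, map_smul, LinearMap.add_apply, LinearMap.smul_apply, smul_eq_mul, i3] at h6
    field_simp at h6
    linear_combination h6

/-- **Existence of smooth rational quintics** on a smooth cubic threefold. -/
theorem exists_quintic (f : Form 4 k 3) (hf : f ≠ 0) [hs : Smooth (ps f)] :
    ∃ (c : Fin 6 → Fin 5 → k) (i : CohB1.ProjSpace 1 k ⟶ Xf f), IsPar f 5 c i ∧ IsClosedImmersion i := by
  have hT := tri_sym (k := k) f.1
  have hsm := Groth.Agent.Fano.K714.JacSm.smoothOn_tri f hf hs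
  have hfh : f.1.IsHomogeneous 3 := (MvPolynomial.mem_homogeneousSubmodule _ _).1 f.2
  obtain ⟨W, M, N, M', L, hW, hM, hN, hM', hL, hMW, hNW, hMW', hMN, hMM', hNM', hML, hLW⟩ :=
    LineConf.exists_conf hT hsm
  obtain ⟨p, ⟨hpM, hpL⟩, hp0⟩ := Submodule.exists_mem_ne_zero_of_ne_bot hML
  obtain ⟨l, hlL, hlW⟩ := SetLike.not_le_iff_exists.1 hLW
  obtain ⟨m, hmM, hpm, -⟩ := K924.TwEx.exists_basis_of_mem hM.1 hpM hp0
  have hsup : N ⊔ M' = W := by
    refine Submodule.eq_of_le_of_finrank_le (sup_le hNW hMW') ?_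
    have := Submodule.finrank_sup_add_finrank_inf_eq N M'
    rw [hNM', finrank_bot, hN.1, hM'.1] at this
    omega
  have hdec : ∀ x ∈ W, ∃ y ∈ M', x + y ∈ N := fun x hx => by
    rw [← hsup] at hx
    obtain ⟨n, hn, z, hz, rfl⟩ := Submodule.mem_sup.1 hx
    exact ⟨-z, M'.neg_mem hz, by rwa [add_neg_cancel_right]⟩
  obtain ⟨a₀, ha₀, hn₀⟩ := hdec p (hMW hpM)
  obtain ⟨a₁, ha₁, hn₁⟩ := hdec m (hMW hmM)
  have hpm' := LinearIndependent.pair_iff.1 hpm
  have hli : LinearIndependent k ![p, m, a₀, a₁, l] := by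
    rw [li5]
    intro x y z w v h0
    have hv : v = 0 := by
      by_contra hv
      apply hlW
      have h1 : l = (-v⁻¹) • (x • p + y • m + z • a₀ + w • a₁) := by
        have h2 : x • p + y • m + z • a₀ + w • a₁ = -(v • l) := eq_neg_of_add_eq_zero_left h0
        rw [h2, smul_neg, neg_smul, neg_neg, smul_smul, inv_mul_cancel₀ hv, one_smul]
      rw [h1]
      exact W.smul_mem _ (W.add_mem (W.add_mem (W.add_mem (W.smul_mem _ (hMW hpM)) (W.smul_mem _ (hMW hmM)))
        (W.smul_mem _ (hMW' ha₀))) (W.smul_mem _ (hMW' ha₁)))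
    rw [hv, zero_smul, add_zero] at h0
    have h1 : x • p + y • m ∈ M ⊓ M' := by
      refine ⟨M.add_mem (M.smul_mem _ hpM) (M.smul_mem _ hmM), ?_⟩
      have h2 : x • p + y • m = -(z • a₀ + w • a₁) := by
        rw [eq_neg_iff_add_eq_zero, ← add_assoc]
        exact h0
      rw [h2]
      exact M'.neg_mem (M'.add_mem (M'.smul_mem _ ha₀) (M'.smul_mem _ ha₁))
    rw [hMM', Submodule.mem_bot] at h1
    obtain ⟨x0, y0⟩ := hpm' _ _ h1
    have h2 : z • a₀ + w • a₁ = 0 := by
      rw [x0, y0] at h0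
      rw [← h0]
      module
    have h3 : z • p + w • m ∈ M ⊓ N := by
      refine ⟨M.add_mem (M.smul_mem _ hpM) (M.smul_mem _ hmM), ?_⟩
      have h4 : z • p + w • m = z • (p + a₀) + w • (m + a₁) - (z • a₀ + w • a₁) := by module
      rw [h4, h2, sub_zero]
      exact N.add_mem (N.smul_mem _ hn₀) (N.smul_mem _ hn₁)
    rw [hMN, Submodule.mem_bot] at h3
    obtain ⟨z0, w0⟩ := hpm' _ _ h3
    exact ⟨x0, y0, z0, w0, hv⟩
  obtain ⟨C, a, b, α, β, hd, hc⟩ := exists_quintic_data hT hsm hli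
    (fun u v => hM.2 _ (M.add_mem (M.smul_mem _ hpM) (M.smul_mem _ hmM)))
    (fun u v => hM'.2 _ (M'.add_mem (M'.smul_mem _ ha₀) (M'.smul_mem _ ha₁)))
    (fun u v => hN.2 _ (N.add_mem (N.smul_mem _ hn₀) (N.smul_mem _ hn₁)))
    (fun u v => hL.2 _ (L.add_mem (L.smul_mem _ hpL) (L.smul_mem _ hlL)))
  obtain ⟨i, h4, h5⟩ := hd.exists_curve f fun s t => by rw [← tri_diag hfh]; exact hc s t
  exact ⟨C, i, h4, h5⟩

end K483.RatEx
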