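import Groth.Agent.Fano.K483.CaseIICube

/-!
# Degenerate rational quintics with planar Gauss map

`caseII` (job 558 of helper496): a smooth rational quintic spanning `P^3` in a cubic surface whose gradient along the
curve is `u γ` with `γ` of degree `≤ 3` spanning a plane does not exist.
-/

set_option autoImplicit false

namespace K483.CaseII

open MvPolynomial K713.BinFactor K496.BinAlg K496.QuintDat K483.CaseIIEnd K483.CaseIICube

variable {k : Type*} [Field k]

theorem isHomogeneous_N {γ : Fin 4 → MvPolynomial (Fin 2) k} {n : ℕ} (hγ : ∀ a, (γ a).IsHomogeneous (n + 1))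
    (a : Fin 4) : (N γ a).IsHomogeneous (n + n) := by
  have hp : ∀ a, (pderiv 0 (γ a)).IsHomogeneous n := fun a => isHomogeneous_pderiv (hγ a) 0
  have hq : ∀ a, (pderiv 1 (γ a)).IsHomogeneous n := fun a => isHomogeneous_pderiv (hγ a) 1
  fin_cases a
  exacts [((hp 1).mul (hq 2)).sub ((hp 2).mul (hq 1)), ((hp 2).mul (hq 0)).sub ((hp 0).mul (hq 2)),
    ((hp 0).mul (hq 1)).sub ((hp 1).mul (hq 0)), isHomogeneous_zero _ _ _]

/-- The cross product of the derivatives is parallel to every vector orthogonal to them. -/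
theorem N_par {γ D : Fin 4 → MvPolynomial (Fin 2) k} (hD3 : D 3 = 0) (h : ∀ i, ∑ a, pderiv i (γ a) * D a = 0)
    (a b : Fin 4) : N γ a * D b = N γ b * D a := by
  have hp := h 0
  have hq := h 1
  rw [Fin.sum_univ_four, hD3, mul_zero, add_zero] at hp hq
  have c01 : N γ 0 * D 1 = N γ 1 * D 0 := by
    change (pderiv 0 (γ 1) * pderiv 1 (γ 2) - pderiv 0 (γ 2) * pderiv 1 (γ 1)) * D 1 =
      (pderiv 0 (γ 2) * pderiv 1 (γ 0) - pderiv 0 (γ 0) * pderiv 1 (γ 2)) * D 0
    linear_combination pderiv 1 (γ 2) * hp - pderiv 0 (γ 2) * hq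
  have c02 : N γ 0 * D 2 = N γ 2 * D 0 := by
    change (pderiv 0 (γ 1) * pderiv 1 (γ 2) - pderiv 0 (γ 2) * pderiv 1 (γ 1)) * D 2 =
      (pderiv 0 (γ 0) * pderiv 1 (γ 1) - pderiv 0 (γ 1) * pderiv 1 (γ 0)) * D 0
    linear_combination pderiv 0 (γ 1) * hq - pderiv 1 (γ 1) * hp
  have c12 : N γ 1 * D 2 = N γ 2 * D 1 := by
    change (pderiv 0 (γ 2) * pderiv 1 (γ 0) - pderiv 0 (γ 0) * pderiv 1 (γ 2)) * D 2 =
      (pderiv 0 (γ 0) * pderiv 1 (γ 1) - pderiv 0 (γ 1) * pderiv 1 (γ 0)) * D 1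
    linear_combination pderiv 1 (γ 0) * hp - pderiv 0 (γ 0) * hq
  have hN3 : N γ 3 = 0 := rfl
  fin_cases a <;> fin_cases b <;>
    simp only [Fin.zero_eta, Fin.mk_one, Fin.reduceFinMk, hD3, hN3, zero_mul, mul_zero, c01, c02, c12]

variable [IsAlgClosed k] [CharZero k]

omit [IsAlgClosed k] in
/-- The first orthogonality relations. -/
theorem orth {τ : Fin 4 → Fin 4 → Fin 4 → k} {c γ : Fin 4 → MvPolynomial (Fin 2) k} {u : MvPolynomial (Fin 2) k}
    {m : ℕ} (D : Dat τ c γ u m) : (∑ a, γ a * c a = 0) ∧ ∀ i, ∑ a, pderiv i (γ a) * c a = 0 := by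
  have h3 : (3 : MvPolynomial (Fin 2) k) ≠ 0 := by
    have : ((3 : ℕ) : MvPolynomial (Fin 2) k) ≠ 0 := Nat.cast_ne_zero.2 three_ne_zero
    exact_mod_cast this
  have h5 : (5 : MvPolynomial (Fin 2) k) ≠ 0 := by
    have : ((5 : ℕ) : MvPolynomial (Fin 2) k) ≠ 0 := Nat.cast_ne_zero.2 (by norm_num)
    exact_mod_cast this
  have h1 : ∀ i, ∑ a, γ a * pderiv i (c a) = 0 := by
    intro i
    have h4 := tri_dd_three D.symm₁ D.symm₂ i c
    rw [D.van, map_zero] at h4
    have h6 := (mul_eq_zero.1 h4.symm).resolve_left h3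
    rw [tri_eq_sum₃] at h6
    apply mul_left_cancel₀ D.u0
    rw [mul_zero, ← h6, Finset.mul_sum]
    refine Finset.sum_congr rfl fun a _ => ?_
    rw [D.eqn]
    change _ = pderiv i (c a) * _
    ring
  have h2 : ∑ a, γ a * c a = 0 := by
    apply mul_left_cancel₀ h5
    rw [mul_zero, Finset.mul_sum]
    have h6 : ∀ a, 5 * (γ a * c a) = X 0 * (γ a * pderiv 0 (c a)) + X 1 * (γ a * pderiv 1 (c a)) := fun a => by
      have := euler (D.hom a)
      push_cast at this
      linear_combination (-γ a) * this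
    rw [Finset.sum_congr rfl fun a _ => h6 a, Finset.sum_add_distrib, ← Finset.mul_sum, ← Finset.mul_sum, h1, h1]
    ring
  refine ⟨h2, fun i => ?_⟩
  have h4 := congrArg (pderiv i) h2
  rw [map_zero, map_sum] at h4
  have h6 : ∑ a, pderiv i (γ a * c a) = ∑ a, pderiv i (γ a) * c a + ∑ a, γ a * pderiv i (c a) := by
    rw [← Finset.sum_add_distrib]
    exact Finset.sum_congr rfl fun a _ => by rw [pderiv_mul]
  rw [h6, h1 i, add_zero] at h4
  exact h4

/-- **CASE-II.** -/
theorem caseII {τ : Fin 4 → Fin 4 → Fin 4 → k} {c γ : Fin 4 → MvPolynomial (Fin 2) k} {u : MvPolynomial (Fin 2) k}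
    {m : ℕ} (D : Dat τ c γ u m) (h3 : γ 3 = 0) (hli : LinearIndependent k ![γ 0, γ 1, γ 2]) : False := by
  obtain ⟨hγc, hγc'⟩ := orth D
  have hm := D.hm
  have hdγ3 : ∀ i, pderiv i (γ 3) = 0 := fun i => by rw [h3, map_zero]
  -- `m ≥ 1`
  obtain ⟨n, rfl⟩ : ∃ n, m = n + 1 := by
    rcases m with _ | n
    · exfalso
      obtain ⟨x, hx⟩ := eq_C_of_isHomogeneous_zero (D.homγ 0)
      obtain ⟨y, hy⟩ := eq_C_of_isHomogeneous_zero (D.homγ 1)
      obtain ⟨h4, h5, -⟩ := li3 hli (x₀ := y) (x₁ := -x) (x₂ := 0) (by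
        rw [hx, hy, map_neg, map_zero]; ring)
      have h6 := hli.ne_zero 1
      apply h6
      change γ 1 = 0
      rw [hy, h4, map_zero]
    · exact ⟨n, rfl⟩
  have hN2 : N γ 2 ≠ 0 := wronskian_ne (n := n) D.homγ hli
  have hNh := isHomogeneous_N (n := n) D.homγ
  -- the planar part of `c`
  let c' : Fin 4 → MvPolynomial (Fin 2) k := ![c 0, c 1, c 2, 0]
  have hc'3 : c' 3 = 0 := rfl
  have hc'h : ∀ a, (c' a).IsHomogeneous 5 := by
    intro a
    fin_cases a
    exacts [D.hom 0, D.hom 1, D.hom 2, isHomogeneous_zero _ _ _]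
  have hγc'' : ∀ i, ∑ a, pderiv i (γ a) * c' a = 0 := by
    intro i
    have := hγc' i
    rw [Fin.sum_univ_four, hdγ3, zero_mul] at this
    rw [Fin.sum_univ_four, hdγ3, zero_mul]
    exact this
  by_cases hcz : ∀ P : Fin 2 → k, P ≠ 0 → ∃ a, eval P (c' a) ≠ 0
  · rcases exists_mul_of_prim hc'h hNh (N_par hc'3 hγc'') hcz with h | ⟨d, g, hd, -⟩
    · exact hN2 (h 2)
    · omega
  push Not at hcz
  obtain ⟨P, hP, hPc⟩ := hcz
  -- division by the linear form
  have hdiv : ∀ a, ∃ B : MvPolynomial (Fin 2) k, B.IsHomogeneous 4 ∧ c' a = lin P * B := fun a =>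
    exists_lin_mul (hc'h a) hP (hPc a)
  choose B hBh hB using hdiv
  let Y : Fin 4 → MvPolynomial (Fin 2) k := ![B 0, B 1, B 2, 0]
  have hY3 : Y 3 = 0 := rfl
  have hYh : ∀ a, (Y a).IsHomogeneous 4 := by
    intro a
    fin_cases a
    exacts [hBh 0, hBh 1, hBh 2, isHomogeneous_zero _ _ _]
  have hcY : ∀ a, c' a = lin P * Y a := by
    intro a
    fin_cases a
    · exact hB 0
    · exact hB 1
    · exact hB 2
    · change (0 : MvPolynomial (Fin 2) k) = lin P * 0
      rw [mul_zero]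
  have hl0 : lin P ≠ 0 := lin_ne_zero hP
  have hc3 : ∀ a, c a = lin P * Y a + c 3 * (Pi.single 3 1 : Fin 4 → MvPolynomial (Fin 2) k) a := by
    intro a
    have h4 := hcY a
    fin_cases a
    · rw [← h4]; simp [c']
    · rw [← h4]; simp [c']
    · rw [← h4]; simp [c']
    · rw [← h4]; simp [c']
  have hc : c = lin P • Y + c 3 • (Pi.single 3 1 : Fin 4 → MvPolynomial (Fin 2) k) := by
    funext a
    exact hc3 a
  -- `Y` has no common zeros
  have hYnz : ∀ Q : Fin 2 → k, Q ≠ 0 → ∃ a, eval Q (Y a) ≠ 0 := by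
    intro Q hQ
    by_contra hcon
    push Not at hcon
    have hcQ : ∀ a, eval Q (c a) = eval Q (c 3) * eval Q ((Pi.single 3 1 : Fin 4 → MvPolynomial (Fin 2) k) a) := by
      intro a
      conv_lhs => rw [hc3 a]
      rw [map_add, map_mul, hcon a, mul_zero, zero_add, map_mul]
    have hcP : ∀ a, eval P (c a) = eval P (c 3) * eval P ((Pi.single 3 1 : Fin 4 → MvPolynomial (Fin 2) k) a) := by
      intro a
      conv_lhs => rw [hc3 a]
      rw [map_add, map_mul, eval_lin_self, zero_mul, zero_add, map_mul]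
    have hPQ : ∀ a, eval P ((Pi.single 3 1 : Fin 4 → MvPolynomial (Fin 2) k) a) =
        eval Q ((Pi.single 3 1 : Fin 4 → MvPolynomial (Fin 2) k) a) := by
      intro a
      rw [Pi.single_apply]
      split_ifs <;> simp
    by_cases hdet : P 0 * Q 1 - P 1 * Q 0 = 0
    · obtain ⟨t, ht⟩ := exists_smul_of_eval_lin hP (x := Q) (by rw [eval_lin]; linear_combination -hdet)
      have ht0 : t ≠ 0 := by
        rintro rfl
        rw [zero_smul] at ht
        exact hQ ht
      have hYP : ∀ a, eval P (Y a) = 0 := fun a => by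
        have := hcon a
        rw [ht, eval_smul_of_isHomogeneous (hYh a)] at this
        exact (mul_eq_zero.1 this).resolve_left (pow_ne_zero _ ht0)
      refine D.emb.tan P hP (c 3) ![0, 0, 0, 1] fun a => ?_
      obtain ⟨z, -, hz⟩ := exists_lin_mul (n := 3) (hYh a) hP (hYP a)
      have h4 : (Pi.single 3 1 : Fin 4 → MvPolynomial (Fin 2) k) a = C ((![0, 0, 0, 1] : Fin 4 → k) a) := by
        fin_cases a <;> simp
      refine ⟨z, ?_⟩
      rw [← h4]
      conv_lhs => rw [hc3 a]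
      rw [hz]
      ring
    · have h4 := D.emb.pts P Q hdet (eval Q (c 3)) (-eval P (c 3)) (fun a => by
        rw [hcP a, hcQ a, hPQ a]; ring)
      obtain ⟨a, ha⟩ := D.emb.nz hQ
      apply ha
      rw [hcQ a, h4.1, zero_mul]
  -- `n = 2` and `Y = κ N γ`
  have hparY : ∀ a b, N γ a * Y b = N γ b * Y a := by
    refine N_par hY3 fun i => ?_
    apply mul_left_cancel₀ hl0
    rw [mul_zero, ← hγc'' i, Finset.mul_sum]
    refine Finset.sum_congr rfl fun a _ => ?_
    rw [hcY a]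
    ring
  rcases exists_mul_of_prim hYh hNh hparY hYnz with h | ⟨d, g, hd, hg, hg0, hN⟩
  · exact hN2 (h 2)
  obtain rfl : n = 2 := by omega
  obtain rfl : d = 0 := by omega
  obtain ⟨κ, rfl⟩ := eq_C_of_isHomogeneous_zero hg
  have hκ : κ ≠ 0 := by
    rintro rfl
    exact hg0 (map_zero _)
  have hYN : ∀ a, Y a = C κ⁻¹ * N γ a := fun a => by
    rw [hN a, ← mul_assoc, ← map_mul, inv_mul_cancel₀ hκ, map_one, one_mul]
  have hYli : LinearIndependent k ![Y 0, Y 1, Y 2] := by
    rw [Fintype.linearIndependent_iff]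
    intro x hx
    rw [Fin.sum_univ_three] at hx
    simp only [Matrix.cons_val, smul_eq_C_mul] at hx
    have hcli := D.li
    rw [Fintype.linearIndependent_iff] at hcli
    have h4 := hcli ![x 0, x 1, x 2, 0] (by
      rw [Fin.sum_univ_four]
      simp only [Matrix.cons_val, smul_eq_C_mul, map_zero, zero_mul, add_zero]
      have e0 : c 0 = lin P * Y 0 := hcY 0
      have e1 : c 1 = lin P * Y 1 := hcY 1
      have e2 : c 2 = lin P * Y 2 := hcY 2
      rw [e0, e1, e2]
      linear_combination lin P * hx)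
    intro i
    fin_cases i
    exacts [h4 0, h4 1, h4 2]
  -- the coefficient `τ_333`
  have hT3 : tri τ c c (e 3) = 0 := by
    have := D.eqn 3
    rw [h3, mul_zero] at this
    exact this
  have hce : c = lin P • Y + c 3 • e 3 := hc
  have h333' : tri τ (e 3) (e 3) (e (k := k) 3) = C (τ 3 3 3) := tri_single _ _ _ _
  have hexp : tri τ c c (e 3) = lin P ^ 2 * tri τ Y Y (e 3) + 2 * lin P * c 3 * tri τ Y (e 3) (e 3) +
      c 3 ^ 2 * C (τ 3 3 3) := by
    conv_lhs => rw [hce]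
    simp only [tri_add₁, tri_add₂, tri_smul₁, tri_smul₂, h333', tri_swap₁ (e 3) Y (e 3) D.symm₁]
    ring
  have h333 : τ 3 3 3 = 0 := by
    have h4 := congrArg (eval P) hexp
    rw [hT3, map_zero, map_add, map_add, map_mul, map_pow, eval_lin_self, map_mul, map_mul, map_mul, eval_lin_self,
      map_mul, map_pow, eval_C] at h4
    have hcP : eval P (c 3) ≠ 0 := by
      intro h5
      obtain ⟨a, ha⟩ := D.emb.nz hP
      apply ha
      rw [hc3 a, map_add, map_mul, eval_lin_self, zero_mul, zero_add, map_mul, h5, zero_mul]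
    have h5 : eval P (c 3) ^ 2 * τ 3 3 3 = 0 := by linear_combination -h4
    exact (mul_eq_zero.1 h5).resolve_left (pow_ne_zero 2 hcP)
  have hrel : lin P * tri τ Y Y (e 3) + 2 * c 3 * tri τ Y (e 3) (e 3) = 0 := by
    rw [h333, map_zero, mul_zero, add_zero, hT3] at hexp
    apply mul_left_cancel₀ hl0
    linear_combination -hexp
  have hA2 := CaseIICube.main D.symm₁ D.symm₂ D.emb hYh hY3 hYnz hYli D.homγ hli hYN hc h333 hrel
  have hA3 : ∀ a, τ 3 3 a = 0 := fun a => by rw [D.symm₂, D.symm₁, hA2]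
  have hYee : tri τ Y (e 3) (e 3) = 0 := by
    rw [tri_e_e D.symm₁ D.symm₂]
    exact Finset.sum_eq_zero fun d _ => by rw [hA3, map_zero, mul_zero]
  have hA1 : tri τ Y Y (e 3) = 0 := by
    rw [hYee, mul_zero, add_zero] at hrel
    exact (mul_eq_zero.1 hrel).resolve_left hl0
  have hYYY : tri τ Y Y Y = 0 := by
    have h4 : tri τ c c c = lin P ^ 3 * tri τ Y Y Y := by
      conv_lhs => rw [hce]
      simp only [tri_add₁, tri_add₂, tri_add₃, tri_smul₁, tri_smul₂, tri_smul₃, h333', h333, hYee, hA1,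
        tri_swap₁ (e 3) Y _ D.symm₁, tri_swap₂ Y (e 3) Y D.symm₂, tri_rot D.symm₁ D.symm₂ (e 3) (e 3) Y,
        map_zero]
      ring
    rw [D.van] at h4
    exact (mul_eq_zero.1 h4.symm).resolve_left (pow_ne_zero 3 hl0)
  refine CaseIIEnd.main D.symm₁ D.symm₂ D.noSing hYh hY3 hYnz hYli D.homγ h3 hli ?_ ?_ hA1 hA2 hYYY hc D.u0 D.eqn
  · apply mul_left_cancel₀ hl0
    rw [mul_zero, ← hγc, Finset.mul_sum]
    refine Finset.sum_congr rfl fun a _ => ?_
    by_cases ha : a = 3
    · subst ha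
      rw [h3]; ring
    · rw [hc3 a, Pi.single_eq_of_ne ha]
      ring
  · intro i
    apply mul_left_cancel₀ hl0
    rw [mul_zero, ← hγc' i, Finset.mul_sum]
    refine Finset.sum_congr rfl fun a _ => ?_
    by_cases ha : a = 3
    · subst ha
      rw [hdγ3]; ring
    · rw [hc3 a, Pi.single_eq_of_ne ha]
      ring

end K483.CaseII
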