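import Groth.Agent.Fano.K483.CaseIIEnd

/-!
# Degenerate rational quintics with planar Gauss map: the cubes

Steps (5) and (6) of job 558 of helper496.
* `exists_cubes`: a net of binary cubics whose Gauss map has no base points contains three cubes of linear forms;
* `main`: `T(e_a, e_3, e_3) = 0`.
-/

set_option autoImplicit false

namespace K483.CaseIICube

open MvPolynomial K713.BinFactor K496.BinAlg K496.QuintDat K798.TwBin K483.CaseIIEnd

variable {k : Type*} [Field k]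

/-- The cross product of the two derivatives. -/
noncomputable def N (γ : Fin 4 → MvPolynomial (Fin 2) k) : Fin 4 → MvPolynomial (Fin 2) k :=
  ![pderiv 0 (γ 1) * pderiv 1 (γ 2) - pderiv 0 (γ 2) * pderiv 1 (γ 1),
    pderiv 0 (γ 2) * pderiv 1 (γ 0) - pderiv 0 (γ 0) * pderiv 1 (γ 2),
    pderiv 0 (γ 0) * pderiv 1 (γ 1) - pderiv 0 (γ 1) * pderiv 1 (γ 0), 0]

/-- Two vectors orthogonal to two independent vectors are parallel. -/
theorem par3 {R : Type*} [CommRing R] [IsDomain R] {p0 p1 p2 q0 q1 q2 v0 v1 v2 w0 w1 w2 : R}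
    (hW : p0 * q1 - p1 * q0 ≠ 0) (hvP : v0 * p0 + v1 * p1 + v2 * p2 = 0) (hvQ : v0 * q0 + v1 * q1 + v2 * q2 = 0)
    (hwP : w0 * p0 + w1 * p1 + w2 * p2 = 0) (hwQ : w0 * q0 + w1 * q1 + w2 * q2 = 0) :
    v0 * w1 = v1 * w0 ∧ v0 * w2 = v2 * w0 ∧ v1 * w2 = v2 * w1 := by
  have h := par (R := R) (P := ![p0, p1, p2, 0]) (Q := ![q0, q1, q2, 0]) (v := ![v0, v1, v2, 0])
    (w := ![w0, w1, w2, 0]) hW rfl rfl rfl rfl
    (by rw [Fin.sum_univ_four]; simpa using hvP) (by rw [Fin.sum_univ_four]; simpa using hvQ)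
    (by rw [Fin.sum_univ_four]; simpa using hwP) (by rw [Fin.sum_univ_four]; simpa using hwQ)
  exact ⟨h 0 1, h 0 2, h 1 2⟩

theorem bp_comb [Infinite k] {d : ℕ} (x : Fin 3 → k) (g : Fin 3 → Fin (d + 1) → k) :
    bp (∑ a, x a • g a) = ∑ a, C (x a) * bp (g a) := by
  refine MvPolynomial.funext fun y => ?_
  rw [eval_bp, map_sum, bv]
  simp only [map_mul, eval_C, eval_bp, bv, Finset.mul_sum]
  rw [Finset.sum_comm]
  refine Finset.sum_congr rfl fun i _ => ?_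
  rw [Finset.sum_apply, Finset.sum_mul]
  refine Finset.sum_congr rfl fun a _ => ?_
  rw [Pi.smul_apply, smul_eq_mul]
  ring

/-- The functional defining a net of binary cubics. -/
theorem exists_functional [Infinite k] {γ : Fin 4 → MvPolynomial (Fin 2) k} (hγ : ∀ a, (γ a).IsHomogeneous 3)
    (hγli : LinearIndependent k ![γ 0, γ 1, γ 2]) : ∃ f : (Fin 4 → k) →ₗ[k] k, f ≠ 0 ∧
      ∀ v : Fin 4 → k, f v = 0 → ∃ x : Fin 3 → k, C (x 0) * γ 0 + C (x 1) * γ 1 + C (x 2) * γ 2 = bp (d := 3) v := by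
  obtain ⟨g0, hg0⟩ := exists_bp (hγ 0)
  obtain ⟨g1, hg1⟩ := exists_bp (hγ 1)
  obtain ⟨g2, hg2⟩ := exists_bp (hγ 2)
  have hgli : LinearIndependent k ![g0, g1, g2] := by
    rw [Fintype.linearIndependent_iff]
    intro x hx
    have h1 := bp_comb (d := 3) x ![g0, g1, g2]
    rw [hx] at h1
    have h2 : bp (d := 3) (0 : Fin 4 → k) = 0 := by simp [bp]
    rw [h2, Fin.sum_univ_three] at h1
    obtain ⟨x0, x1, x2⟩ := li3 hγli (x₀ := x 0) (x₁ := x 1) (x₂ := x 2) (by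
      rw [← hg0, ← hg1, ← hg2]; exact h1.symm)
    intro i
    fin_cases i
    exacts [x0, x1, x2]
  set S := Submodule.span k (Set.range ![g0, g1, g2]) with hS
  have hSf : Module.finrank k ↥S = 3 := by
    rw [hS, finrank_span_eq_card hgli, Fintype.card_fin]
  obtain ⟨v, hv⟩ : ∃ v, v ∉ S := by
    by_contra hcon
    push Not at hcon
    have h1 : S = ⊤ := Submodule.eq_top_iff'.2 hcon
    rw [h1, finrank_top, Module.finrank_fintype_fun_eq_card, Fintype.card_fin] at hSf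
    omega
  obtain ⟨f, hfv, hfS⟩ := Submodule.exists_dual_map_eq_bot_of_notMem hv inferInstance
  have hf0 : f ≠ 0 := by
    rintro rfl
    exact hfv rfl
  have hle : S ≤ LinearMap.ker f := fun w hw => by
    have : f w ∈ S.map f := Submodule.mem_map_of_mem hw
    rw [hfS] at this
    exact (Submodule.mem_bot k).1 this
  have hker : Module.finrank k ↥(LinearMap.ker f) = 3 := by
    have := Module.Dual.finrank_ker_add_one_of_ne_zero hf0
    rw [Module.finrank_fintype_fun_eq_card, Fintype.card_fin] at this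
    omega
  have heq : S = LinearMap.ker f := Submodule.eq_of_le_of_finrank_eq hle (by rw [hSf, hker])
  refine ⟨f, hf0, fun w hw => ?_⟩
  have hwS : w ∈ S := by rw [heq]; exact hw
  rw [hS, Submodule.mem_span_range_iff_exists_fun] at hwS
  obtain ⟨x, hx⟩ := hwS
  refine ⟨x, ?_⟩
  have h1 := bp_comb (d := 3) x ![g0, g1, g2]
  rw [hx, Fin.sum_univ_three] at h1
  rw [h1, ← hg0, ← hg1, ← hg2]
  rfl

theorem f_apply (f : (Fin 4 → k) →ₗ[k] k) (v : Fin 4 → k) :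
    f v = v 0 * f (Pi.single 0 1) + v 1 * f (Pi.single 1 1) + v 2 * f (Pi.single 2 1) + v 3 * f (Pi.single 3 1) := by
  have h : v = v 0 • (Pi.single 0 1 : Fin 4 → k) + v 1 • (Pi.single 1 1 : Fin 4 → k) +
      v 2 • (Pi.single 2 1 : Fin 4 → k) + v 3 • (Pi.single 3 1 : Fin 4 → k) := by
    ext i
    fin_cases i <;> simp
  conv_lhs => rw [h]
  simp only [map_add, map_smul, smul_eq_mul]

theorem bp_three [Infinite k] (v : Fin 4 → k) : bp (d := 3) v =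
    C (v 0) * X 0 ^ 3 + C (v 1) * (X 0 ^ 2 * X 1) + C (v 2) * (X 0 * X 1 ^ 2) + C (v 3) * X 1 ^ 3 := by
  refine MvPolynomial.funext fun y => ?_
  rw [eval_bp, bv, Fin.sum_univ_four]
  have h5 : ((0 : Fin (3 + 1)) : ℕ) = 0 := rfl
  have h6 : ((1 : Fin (3 + 1)) : ℕ) = 1 := rfl
  have h7 : ((2 : Fin (3 + 1)) : ℕ) = 2 := rfl
  have h8 : ((3 : Fin (3 + 1)) : ℕ) = 3 := rfl
  rw [h5, h6, h7, h8]
  simp only [map_add, map_mul, map_pow, eval_C, eval_X]
  ring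

variable [IsAlgClosed k] [CharZero k]

/-- **Three cubes** in a net of binary cubics without common zeros of the Gauss map. -/
theorem exists_cubes {γ : Fin 4 → MvPolynomial (Fin 2) k} (hγ : ∀ a, (γ a).IsHomogeneous 3)
    (hγli : LinearIndependent k ![γ 0, γ 1, γ 2]) (hnz : ∀ Q : Fin 2 → k, Q ≠ 0 → ∃ a, eval Q (N γ a) ≠ 0) :
    ∃ (r : Fin 3 → Fin 2 → k) (β : Fin 3 → Fin 3 → k), (∀ i, r i ≠ 0) ∧
      (∀ i j, i ≠ j → r i 1 * r j 0 - r i 0 * r j 1 ≠ 0) ∧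
      ∀ i, C (β i 0) * γ 0 + C (β i 1) * γ 1 + C (β i 2) * γ 2 = lin (r i) ^ 3 := by
  have hinf : Infinite k := IsAlgClosed.instInfinite
  have h3 : (3 : k) ≠ 0 := three_ne_zero
  obtain ⟨f, hf0, hf⟩ := exists_functional hγ hγli
  set x0 := f (Pi.single 0 1) with hx0
  set x1 := f (Pi.single 1 1) with hx1
  set x2 := f (Pi.single 2 1) with hx2
  set x3 := f (Pi.single 3 1) with hx3
  have hfa : ∀ v, f v = v 0 * x0 + v 1 * x1 + v 2 * x2 + v 3 * x3 := f_apply f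
  let Φ : MvPolynomial (Fin 2) k := C x0 * X 1 ^ 3 - C (3 * x1) * (X 1 ^ 2 * X 0) + C (3 * x2) * (X 1 * X 0 ^ 2) -
    C x3 * X 0 ^ 3
  have hX : ∀ i : Fin 2, (X i : MvPolynomial (Fin 2) k).IsHomogeneous 1 := fun i => isHomogeneous_X k i
  have hΦ : Φ.IsHomogeneous 3 := by
    have hC : ∀ (x : k) {F : MvPolynomial (Fin 2) k}, F.IsHomogeneous 3 → (C x * F).IsHomogeneous 3 := by
      intro x F hF
      have := (isHomogeneous_C (Fin 2) x).mul hF
      rwa [zero_add] at this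
    exact (((hC _ (by simpa using (hX 1).pow 3)).sub (hC _ (by simpa using ((hX 1).pow 2).mul (hX 0)))).add
      (hC _ (by simpa using (hX 1).mul ((hX 0).pow 2)))).sub (hC _ (by simpa using (hX 0).pow 3))
  have hΦe : ∀ Q : Fin 2 → k, eval Q Φ = f ![Q 1 ^ 3, -(3 * (Q 1 ^ 2 * Q 0)), 3 * (Q 1 * Q 0 ^ 2), -Q 0 ^ 3] := by
    intro Q
    rw [hfa]
    simp only [Φ, map_add, map_sub, map_mul, map_pow, eval_C, eval_X, Matrix.cons_val]
    ring
  have hlin : ∀ Q : Fin 2 → k, lin Q = C (Q 1) * X 0 - C (Q 0) * X 1 := by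
    intro Q
    refine MvPolynomial.funext fun y => ?_
    rw [eval_lin]
    simp
  have hcub : ∀ Q : Fin 2 → k, bp (d := 3) ![Q 1 ^ 3, -(3 * (Q 1 ^ 2 * Q 0)), 3 * (Q 1 * Q 0 ^ 2), -Q 0 ^ 3] =
      lin Q ^ 3 := by
    intro Q
    refine MvPolynomial.funext fun y => ?_
    rw [bp_three, map_pow, eval_lin]
    simp only [map_add, map_mul, map_pow, eval_C, eval_X, Matrix.cons_val]
    ring
  have hsq0 : ∀ Q : Fin 2 → k, bp (d := 3) ![Q 1 ^ 2, -(2 * (Q 1 * Q 0)), Q 0 ^ 2, 0] = lin Q ^ 2 * X 0 := by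
    intro Q
    refine MvPolynomial.funext fun y => ?_
    rw [bp_three, map_mul, map_pow, eval_lin]
    simp only [map_add, map_mul, map_pow, eval_C, eval_X, Matrix.cons_val]
    ring
  have hsq1 : ∀ Q : Fin 2 → k, bp (d := 3) ![0, Q 1 ^ 2, -(2 * (Q 1 * Q 0)), Q 0 ^ 2] = lin Q ^ 2 * X 1 := by
    intro Q
    refine MvPolynomial.funext fun y => ?_
    rw [bp_three, map_mul, map_pow, eval_lin]
    simp only [map_add, map_mul, map_pow, eval_C, eval_X, Matrix.cons_val]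
    ring
  have hd0 : ∀ Q : Fin 2 → k, eval Q (pderiv 0 Φ) = -3 * f ![0, Q 1 ^ 2, -(2 * (Q 1 * Q 0)), Q 0 ^ 2] := by
    intro Q
    rw [hfa]
    simp [Φ]
    ring
  have hd1 : ∀ Q : Fin 2 → k, eval Q (pderiv 1 Φ) = 3 * f ![Q 1 ^ 2, -(2 * (Q 1 * Q 0)), Q 0 ^ 2, 0] := by
    intro Q
    rw [hfa]
    simp [Φ]
    ring
  obtain ⟨r, hr, hrr, hrz, -⟩ := exists_zeros hΦ (fun Q hQ _ => by
    by_contra hcon
    push Not at hcon
    have e0 := hcon 0
    have e1 := hcon 1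
    rw [hd0] at e0
    rw [hd1] at e1
    obtain ⟨β', hβ'⟩ := hf _ ((mul_eq_zero.1 e0).resolve_left (neg_ne_zero.2 h3))
    obtain ⟨β, hβ⟩ := hf _ ((mul_eq_zero.1 e1).resolve_left h3)
    rw [hsq1] at hβ'
    rw [hsq0] at hβ
    have hlQ : eval Q (lin Q) = 0 := eval_lin_self Q
    have hrel : ∀ (x : Fin 3 → k) (j : Fin 2), C (x 0) * γ 0 + C (x 1) * γ 1 + C (x 2) * γ 2 = lin Q ^ 2 * X j →
        ∀ i : Fin 2, x 0 * eval Q (pderiv i (γ 0)) + x 1 * eval Q (pderiv i (γ 1)) +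
          x 2 * eval Q (pderiv i (γ 2)) = 0 := by
      intro x j hx i
      have h4 := congrArg (fun F => eval Q (pderiv i F)) hx
      simp only [map_add, pderiv_mul, pderiv_C, zero_mul, zero_add, map_mul, eval_C, pderiv_pow, map_pow, hlQ] at h4
      rw [h4]
      simp
    -- the two vectors are independent
    have hindep : ¬ (β 0 * β' 1 = β 1 * β' 0 ∧ β 0 * β' 2 = β 2 * β' 0 ∧ β 1 * β' 2 = β 2 * β' 1) := by
      rintro ⟨a1, a2, a3⟩
      have hl0 : lin Q ^ 2 ≠ 0 := pow_ne_zero 2 (lin_ne_zero hQ)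
      have hzero : ∀ a : Fin 3, β a = 0 := by
        intro a
        have h5 : C (β a) * (lin Q ^ 2 * X 1) - C (β' a) * (lin Q ^ 2 * X 0) = 0 := by
          rw [← hβ, ← hβ']
          have C1 : (C (β 0) * C (β' 1) : MvPolynomial (Fin 2) k) = C (β 1) * C (β' 0) := by
            rw [← map_mul, ← map_mul, a1]
          have C2 : (C (β 0) * C (β' 2) : MvPolynomial (Fin 2) k) = C (β 2) * C (β' 0) := by
            rw [← map_mul, ← map_mul, a2]
          have C3 : (C (β 1) * C (β' 2) : MvPolynomial (Fin 2) k) = C (β 2) * C (β' 1) := by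
            rw [← map_mul, ← map_mul, a3]
          fin_cases a
          · simp only [Fin.zero_eta]
            linear_combination γ 1 * C1 + γ 2 * C2
          · simp only [Fin.mk_one]
            linear_combination (-γ 0) * C1 + γ 2 * C3
          · simp only [Fin.reduceFinMk]
            linear_combination (-γ 0) * C2 - γ 1 * C3
        have h6 : lin Q ^ 2 * (C (β a) * X 1 - C (β' a) * X 0) = 0 := by linear_combination h5
        have h7 := (mul_eq_zero.1 h6).resolve_left hl0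
        have h8 := congrArg (eval ![0, 1]) h7
        simpa using h8
      have h9 : lin Q ^ 2 * X 0 = 0 := by
        rw [← hβ, hzero, hzero, hzero, map_zero]
        ring
      exact mul_ne_zero hl0 (X_ne_zero 0) h9
    obtain ⟨a, ha⟩ := hnz Q hQ
    apply ha
    have b0 := hrel β 0 hβ 0
    have b1 := hrel β 0 hβ 1
    have b'0 := hrel β' 1 hβ' 0
    have b'1 := hrel β' 1 hβ' 1
    fin_cases a
    · change eval Q (pderiv 0 (γ 1) * pderiv 1 (γ 2) - pderiv 0 (γ 2) * pderiv 1 (γ 1)) = 0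
      rw [map_sub, map_mul, map_mul]
      by_contra hne
      obtain ⟨a1, a2, a3⟩ := par3 (p2 := eval Q (pderiv 0 (γ 0))) (q2 := eval Q (pderiv 1 (γ 0))) (v0 := β 1)
        (v1 := β 2) (v2 := β 0) (w0 := β' 1) (w1 := β' 2) (w2 := β' 0) hne
        (by rw [← b0]; ring) (by rw [← b1]; ring) (by rw [← b'0]; ring) (by rw [← b'1]; ring)
      exact hindep ⟨a2.symm, a3.symm, a1⟩
    · change eval Q (pderiv 0 (γ 2) * pderiv 1 (γ 0) - pderiv 0 (γ 0) * pderiv 1 (γ 2)) = 0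
      rw [map_sub, map_mul, map_mul]
      by_contra hne
      obtain ⟨a1, a2, a3⟩ := par3 (p2 := eval Q (pderiv 0 (γ 1))) (q2 := eval Q (pderiv 1 (γ 1))) (v0 := β 2)
        (v1 := β 0) (v2 := β 1) (w0 := β' 2) (w1 := β' 0) (w2 := β' 1) hne
        (by rw [← b0]; ring) (by rw [← b1]; ring) (by rw [← b'0]; ring) (by rw [← b'1]; ring)
      exact hindep ⟨a3, a1.symm, a2.symm⟩
    · change eval Q (pderiv 0 (γ 0) * pderiv 1 (γ 1) - pderiv 0 (γ 1) * pderiv 1 (γ 0)) = 0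
      rw [map_sub, map_mul, map_mul]
      by_contra hne
      obtain ⟨a1, a2, a3⟩ := par3 (v0 := β 0) (v1 := β 1) (v2 := β 2) (w0 := β' 0) (w1 := β' 1) (w2 := β' 2) hne
        b0 b1 b'0 b'1
      exact hindep ⟨a1, a2, a3⟩
    · exact map_zero _)
  have hβ : ∀ i, ∃ x : Fin 3 → k, C (x 0) * γ 0 + C (x 1) * γ 1 + C (x 2) * γ 2 = lin (r i) ^ 3 := fun i => by
    obtain ⟨x, hx⟩ := hf _ ((hΦe (r i)).symm.trans (hrz i))
    exact ⟨x, by rw [hx, hcub]⟩
  choose β hβ' using hβ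
  exact ⟨r, β, hr, hrr, hβ'⟩

omit [IsAlgClosed k] [CharZero k] in
theorem not_lin_dvd {Q : Fin 2 → k} {F : MvPolynomial (Fin 2) k} (h : eval Q F ≠ 0) : ¬ lin Q ∣ F := by
  rintro ⟨G, rfl⟩
  apply h
  rw [map_mul, eval_lin_self, zero_mul]

omit [IsAlgClosed k] in
/-- The argument at one cube. -/
theorem at_cube {τ : Fin 4 → Fin 4 → Fin 4 → k} (symm₁ : ∀ a b d, τ a b d = τ b a d) {c Y γ : Fin 4 → MvPolynomial (Fin 2) k}
    {m' : MvPolynomial (Fin 2) k} (emb : Emb c) (hY3 : Y 3 = 0)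
    (hYnz : ∀ P : Fin 2 → k, P ≠ 0 → ∃ a, eval P (Y a) ≠ 0) {κ : k} (hYN : ∀ a, Y a = C κ * N γ a)
    (hc : c = m' • Y + c 3 • e 3)
    (hrel : m' * tri τ Y Y (e 3) + 2 * c 3 * tri τ Y (e 3) (e 3) = 0) {Q : Fin 2 → k} (hQ : Q ≠ 0)
    {β : Fin 3 → k} (hβ : C (β 0) * γ 0 + C (β 1) * γ 1 + C (β 2) * γ 2 = lin Q ^ 3) :
    lin Q ^ 2 ∣ tri τ Y (e 3) (e 3) := by
  have h2 : (2 : k) ≠ 0 := two_ne_zero
  let B : Fin 4 → k := ![β 0, β 1, β 2, 0]
  have hl0 : lin Q ≠ 0 := lin_ne_zero hQ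
  -- derivatives of the relation
  have hd : ∀ i : Fin 2, lin Q ^ 2 ∣ C (β 0) * pderiv i (γ 0) + C (β 1) * pderiv i (γ 1) + C (β 2) * pderiv i (γ 2) := by
    intro i
    have h := congrArg (pderiv i) hβ
    simp only [map_add, pderiv_mul, pderiv_C, zero_mul, zero_add, pderiv_pow] at h
    rw [h]
    exact ⟨3 * pderiv i (lin Q), by push_cast; ring⟩
  obtain ⟨g0, hg0⟩ := hd 0
  obtain ⟨g1, hg1⟩ := hd 1
  have hdiv : ∀ a b, lin Q ^ 2 ∣ Y a * C (B b) - Y b * C (B a) := by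
    have c01 : lin Q ^ 2 ∣ N γ 0 * C (β 1) - N γ 1 * C (β 0) := by
      refine ⟨pderiv 1 (γ 2) * g0 - pderiv 0 (γ 2) * g1, ?_⟩
      change (pderiv 0 (γ 1) * pderiv 1 (γ 2) - pderiv 0 (γ 2) * pderiv 1 (γ 1)) * C (β 1) -
        (pderiv 0 (γ 2) * pderiv 1 (γ 0) - pderiv 0 (γ 0) * pderiv 1 (γ 2)) * C (β 0) = _
      linear_combination pderiv 1 (γ 2) * hg0 - pderiv 0 (γ 2) * hg1
    have c02 : lin Q ^ 2 ∣ N γ 0 * C (β 2) - N γ 2 * C (β 0) := by
      refine ⟨pderiv 0 (γ 1) * g1 - pderiv 1 (γ 1) * g0, ?_⟩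
      change (pderiv 0 (γ 1) * pderiv 1 (γ 2) - pderiv 0 (γ 2) * pderiv 1 (γ 1)) * C (β 2) -
        (pderiv 0 (γ 0) * pderiv 1 (γ 1) - pderiv 0 (γ 1) * pderiv 1 (γ 0)) * C (β 0) = _
      linear_combination pderiv 0 (γ 1) * hg1 - pderiv 1 (γ 1) * hg0
    have c12 : lin Q ^ 2 ∣ N γ 1 * C (β 2) - N γ 2 * C (β 1) := by
      refine ⟨pderiv 1 (γ 0) * g0 - pderiv 0 (γ 0) * g1, ?_⟩
      change (pderiv 0 (γ 2) * pderiv 1 (γ 0) - pderiv 0 (γ 0) * pderiv 1 (γ 2)) * C (β 2) -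
        (pderiv 0 (γ 0) * pderiv 1 (γ 1) - pderiv 0 (γ 1) * pderiv 1 (γ 0)) * C (β 1) = _
      linear_combination pderiv 1 (γ 0) * hg0 - pderiv 0 (γ 0) * hg1
    have hneg : ∀ a b, lin Q ^ 2 ∣ N γ a * C (B b) - N γ b * C (B a) → lin Q ^ 2 ∣ Y a * C (B b) - Y b * C (B a) := by
      rintro a b ⟨g, hg⟩
      exact ⟨C κ * g, by rw [hYN, hYN]; linear_combination C κ * hg⟩
    have hsw : ∀ a b, lin Q ^ 2 ∣ Y a * C (B b) - Y b * C (B a) → lin Q ^ 2 ∣ Y b * C (B a) - Y a * C (B b) := by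
      rintro a b ⟨g, hg⟩
      exact ⟨-g, by linear_combination -hg⟩
    have h3 : ∀ a, lin Q ^ 2 ∣ Y a * C (B 3) - Y 3 * C (B a) := by
      intro a
      have : B 3 = 0 := rfl
      rw [this, hY3, map_zero, mul_zero, zero_mul, sub_zero]
      exact dvd_zero _
    intro a b
    fin_cases a <;> fin_cases b
    · simp
    · exact hneg 0 1 c01
    · exact hneg 0 2 c02
    · exact h3 0
    · exact hsw 0 1 (hneg 0 1 c01)
    · simp
    · exact hneg 1 2 c12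
    · exact h3 1
    · exact hsw 0 2 (hneg 0 2 c02)
    · exact hsw 1 2 (hneg 1 2 c12)
    · simp
    · exact h3 2
    · exact hsw 0 3 (h3 0)
    · exact hsw 1 3 (h3 1)
    · exact hsw 2 3 (h3 2)
    · simp
  obtain ⟨j, hj⟩ : ∃ j, B j ≠ 0 := by
    by_contra hcon
    push Not at hcon
    have b0 : β 0 = 0 := hcon 0
    have b1 : β 1 = 0 := hcon 1
    have b2 : β 2 = 0 := hcon 2
    rw [b0, b1, b2] at hβ
    have : lin Q ^ 3 = 0 := by rw [← hβ]; simp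
    exact pow_ne_zero 3 hl0 this
  set η : MvPolynomial (Fin 2) k := C (B j)⁻¹ * Y j with hη
  have hCj : (C (B j) * C (B j)⁻¹ : MvPolynomial (Fin 2) k) = 1 := by rw [← map_mul, mul_inv_cancel₀ hj, map_one]
  have hYη : ∀ a, ∃ z, Y a = η * C (B a) + lin Q ^ 2 * z := by
    intro a
    obtain ⟨z, hz⟩ := hdiv a j
    refine ⟨C (B j)⁻¹ * z, ?_⟩
    rw [hη]
    linear_combination C (B j)⁻¹ * hz - Y a * hCj
  have hηQ : eval Q η ≠ 0 := by
    intro h0
    obtain ⟨a, ha⟩ := hYnz Q hQ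
    apply ha
    obtain ⟨z, hz⟩ := hYη a
    rw [hz, map_add, map_mul (eval Q) η, h0, map_mul (eval Q) (lin Q ^ 2), map_pow, eval_lin_self]
    ring
  choose z hz using hYη
  have hYv : Y = η • cv B + lin Q ^ 2 • z := by
    funext a
    rw [hz a]
    rfl
  obtain ⟨κ1, hκ1⟩ : ∃ κ1, tri τ (cv B) (cv B) (e 3) = C κ1 :=
    eq_C_of_isHomogeneous_zero (isHomogeneous_tri τ (isHomogeneous_cv B) (isHomogeneous_cv B) (hom_e 3))
  obtain ⟨κ2, hκ2⟩ : ∃ κ2, tri τ (cv B) (e 3) (e 3) = C κ2 :=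
    eq_C_of_isHomogeneous_zero (isHomogeneous_tri τ (isHomogeneous_cv B) (hom_e 3) (hom_e 3))
  have hA1 : ∃ y, tri τ Y Y (e 3) = η ^ 2 * C κ1 + lin Q ^ 2 * y := by
    refine ⟨2 * η * tri τ (cv B) z (e 3) + lin Q ^ 2 * tri τ z z (e 3), ?_⟩
    rw [hYv]
    simp only [tri_add₁, tri_add₂, tri_smul₁, tri_smul₂, hκ1, tri_swap₁ z (cv B) (e 3) symm₁]
    ring
  have hA2 : ∃ y, tri τ Y (e 3) (e 3) = η * C κ2 + lin Q ^ 2 * y := by
    refine ⟨tri τ z (e 3) (e 3), ?_⟩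
    rw [hYv]
    simp only [tri_add₁, tri_smul₁, hκ2]
  obtain ⟨y1, hy1⟩ := hA1
  obtain ⟨y2, hy2⟩ := hA2
  by_cases hκ : κ2 = 0
  · rw [hy2, hκ, map_zero, mul_zero, zero_add]
    exact dvd_mul_right _ _
  · exfalso
    have h4 : lin Q ^ 2 ∣ η * (m' * η * C κ1 + 2 * c 3 * C κ2) := by
      rw [hy1, hy2] at hrel
      exact ⟨-(m' * y1 + 2 * c 3 * y2), by linear_combination hrel⟩
    obtain ⟨y, hy⟩ := (prime_lin hQ).pow_dvd_of_dvd_mul_left 2 (not_lin_dvd hηQ) h4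
    let w : Fin 4 → k := ![β 0, β 1, β 2, -(κ1 / (2 * κ2))]
    have hCκ : (C (2 * κ2) * C (2 * κ2)⁻¹ : MvPolynomial (Fin 2) k) = 1 := by
      rw [← map_mul, mul_inv_cancel₀ (mul_ne_zero h2 hκ), map_one]
    refine emb.tan Q hQ (m' * η) w fun a => ?_
    have key : ∀ a : Fin 4, a ≠ 3 → w a = B a → lin Q ^ 2 ∣ c a - m' * η * C (w a) := by
      intro a ha hw
      have hca : c a = m' * Y a := by
        have := congrFun hc a
        rw [Pi.add_apply, Pi.smul_apply, Pi.smul_apply, e, Pi.single_eq_of_ne ha, smul_zero, add_zero] at this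
        exact this
      rw [hca, hw, hz a]
      exact ⟨m' * z a, by ring⟩
    fin_cases a
    · exact key 0 (by decide) rfl
    · exact key 1 (by decide) rfl
    · exact key 2 (by decide) rfl
    · refine ⟨C (2 * κ2)⁻¹ * y, ?_⟩
      have hw3 : w 3 = -(κ1 * (2 * κ2)⁻¹) := by
        change -(κ1 / (2 * κ2)) = _
        rw [div_eq_mul_inv]
      change c 3 - m' * η * C (w 3) = _
      have h22 : (C (2 * κ2) : MvPolynomial (Fin 2) k) = 2 * C κ2 := by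
        rw [map_mul, map_ofNat]
      rw [hw3, map_neg, map_mul]
      rw [h22] at hCκ
      linear_combination C (2 * κ2)⁻¹ * hy - c 3 * hCκ

/-- **Steps (5) and (6)**. -/
theorem main {τ : Fin 4 → Fin 4 → Fin 4 → k} (symm₁ : ∀ a b d, τ a b d = τ b a d)
    (symm₂ : ∀ a b d, τ a b d = τ a d b) {c Y γ : Fin 4 → MvPolynomial (Fin 2) k}
    {m' : MvPolynomial (Fin 2) k} (emb : Emb c) (hY : ∀ a, (Y a).IsHomogeneous 4) (hY3 : Y 3 = 0)
    (hYnz : ∀ P : Fin 2 → k, P ≠ 0 → ∃ a, eval P (Y a) ≠ 0) (hYli : LinearIndependent k ![Y 0, Y 1, Y 2])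
    (hγ : ∀ a, (γ a).IsHomogeneous 3) (hγli : LinearIndependent k ![γ 0, γ 1, γ 2]) {κ : k}
    (hYN : ∀ a, Y a = C κ * N γ a) (hc : c = m' • Y + c 3 • Pi.single 3 1) (h333 : τ 3 3 3 = 0)
    (hrel : m' * tri τ Y Y (Pi.single 3 1) + 2 * c 3 * tri τ Y (Pi.single 3 1) (Pi.single 3 1) = 0) (a : Fin 4) :
    τ a 3 3 = 0 := by
  obtain ⟨r, β, hr, hrr, hβ⟩ := exists_cubes hγ hγli (fun Q hQ => by
    obtain ⟨a, ha⟩ := hYnz Q hQ
    rw [hYN a, map_mul] at ha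
    exact ⟨a, right_ne_zero_of_mul ha⟩)
  have hdvd : ∀ i, lin (r i) ^ 2 ∣ tri τ Y (e 3) (e 3) := fun i =>
    at_cube symm₁ emb hY3 hYnz hYN hc hrel (hr i) (hβ i)
  have hnd : ∀ i j, i ≠ j → ¬ lin (r i) ∣ lin (r j) ^ 2 := by
    intro i j hij
    apply not_lin_dvd
    rw [map_pow, eval_lin]
    refine pow_ne_zero 2 fun h => hrr i j hij ?_
    linear_combination -h
  have h0 : tri τ Y (e 3) (e 3) = 0 := by
    obtain ⟨B1, hB1⟩ := hdvd 0
    have h1 := hdvd 1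
    rw [hB1] at h1
    obtain ⟨B2, hB2⟩ := (prime_lin (hr 1)).pow_dvd_of_dvd_mul_left 2 (hnd 1 0 (by decide)) h1
    have h2 := hdvd 2
    rw [hB1, hB2] at h2
    obtain ⟨B3, hB3⟩ := (prime_lin (hr 2)).pow_dvd_of_dvd_mul_left 2 (hnd 2 1 (by decide))
      ((prime_lin (hr 2)).pow_dvd_of_dvd_mul_left 2 (hnd 2 0 (by decide)) h2)
    have h4 : tri τ Y (e 3) (e 3) = lin (r 0) ^ 2 * lin (r 1) ^ 2 * lin (r 2) ^ 2 * B3 := by
      rw [hB1, hB2, hB3]; ring
    have h5 : (tri τ Y (e 3) (e 3)).IsHomogeneous 4 := isHomogeneous_tri τ hY (hom_e 3) (hom_e 3)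
    have h6 : (lin (r 0) ^ 2 * lin (r 1) ^ 2 * lin (r 2) ^ 2).IsHomogeneous 6 := by
      simpa using ((((isHomogeneous_lin (r 0)).pow 2).mul ((isHomogeneous_lin (r 1)).pow 2)).mul
        ((isHomogeneous_lin (r 2)).pow 2))
    rw [h4] at h5
    have h7 := eq_zero_of_mul_lt h6 (mul_ne_zero (mul_ne_zero (pow_ne_zero _ (lin_ne_zero (hr 0)))
      (pow_ne_zero _ (lin_ne_zero (hr 1)))) (pow_ne_zero _ (lin_ne_zero (hr 2)))) h5 (by norm_num)
    rw [h4, h7, mul_zero]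
  rw [tri_e_e symm₁ symm₂, Fin.sum_univ_four, hY3, zero_mul, add_zero] at h0
  obtain ⟨x0, x1, x2⟩ := li3 hYli (x₀ := τ 3 3 0) (x₁ := τ 3 3 1) (x₂ := τ 3 3 2) (by rw [← h0]; ring)
  have hsym : τ a 3 3 = τ 3 3 a := by rw [symm₁, symm₂]
  rw [hsym]
  fin_cases a
  exacts [x0, x1, x2, h333]

end K483.CaseIICube
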