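import Groth.Agent.Fano.K496.QuintDat

/-!
# Degenerate rational quintics with planar Gauss map: the end of the argument

Steps (7) and (8) of job 558 of helper496.
* `main`.
-/

set_option autoImplicit false

namespace K483.CaseIIEnd

open MvPolynomial K713.BinFactor K496.BinAlg K496.QuintDat

variable {k : Type*} [Field k]

/-- The constant basis vector. -/
noncomputable def e (a : Fin 4) : Fin 4 → MvPolynomial (Fin 2) k := Pi.single a 1

theorem hom_e (a b : Fin 4) : (e (k := k) a b).IsHomogeneous 0 := by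
  rw [e, Pi.single_apply]
  split_ifs
  · exact isHomogeneous_one _ _
  · exact isHomogeneous_zero _ _ _

theorem dd_e (i : Fin 2) (a : Fin 4) : dd i (e (k := k) a) = 0 := by
  ext1 b
  rw [dd, e, Pi.single_apply]
  split_ifs <;> simp

section

variable {τ : Fin 4 → Fin 4 → Fin 4 → k} (symm₁ : ∀ a b d, τ a b d = τ b a d) (symm₂ : ∀ a b d, τ a b d = τ a d b)

include symm₁ symm₂

theorem tri_rot (x y z : Fin 4 → MvPolynomial (Fin 2) k) : tri τ x y z = tri τ y z x := by
  rw [tri_swap₁ x y z symm₁, tri_swap₂ y x z symm₂]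

/-- `T(x, e_a, e_b)`. -/
theorem tri_e_e (x : Fin 4 → MvPolynomial (Fin 2) k) (a b : Fin 4) :
    tri τ x (e a) (e b) = ∑ d, x d * C (τ a b d) := by
  rw [tri_rot symm₁ symm₂, tri_eq_sum₃]
  refine Finset.sum_congr rfl fun d _ => ?_
  rw [e, e, tri_single]

/-- The derivative of a quadratic expression. -/
theorem tri_dd_two (i : Fin 2) (Y : Fin 4 → MvPolynomial (Fin 2) k) (a : Fin 4) :
    pderiv i (tri τ Y Y (e a)) = 2 * tri τ Y (e a) (dd i Y) := by
  rw [pderiv_tri, dd_e, tri_zero₃, tri_swap₁ (dd i Y) Y _ symm₁, tri_swap₂ Y (dd i Y) _ symm₂]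
  ring

theorem tri_dd_three (i : Fin 2) (Y : Fin 4 → MvPolynomial (Fin 2) k) :
    pderiv i (tri τ Y Y Y) = 3 * tri τ Y Y (dd i Y) := by
  rw [pderiv_tri, tri_swap₁ (dd i Y) Y _ symm₁, tri_swap₂ Y (dd i Y) _ symm₂]
  ring

/-- The square of `x + r e_3`. -/
theorem tri_sq (hA2 : ∀ a, τ a 3 3 = 0) (x : Fin 4 → MvPolynomial (Fin 2) k) (r : MvPolynomial (Fin 2) k)
    (a : Fin 4) : tri τ (x + r • e 3) (x + r • e 3) (e a) = tri τ x x (e a) + 2 * r * tri τ x (e 3) (e a) := by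
  have h0 : tri τ (e 3) (e 3) (e (k := k) a) = 0 := by
    rw [e, e, tri_single, symm₂, symm₁, hA2, map_zero]
  rw [tri_add₁, tri_add₂, tri_add₂, tri_smul₁, tri_smul₂, tri_smul₁, tri_smul₂, h0,
    tri_swap₁ (e 3) x (e a) symm₁]
  ring

end

/-- Two vectors orthogonal to two independent vectors are parallel. -/
theorem par {R : Type*} [CommRing R] [IsDomain R] {P Q v w : Fin 4 → R} (hW : P 0 * Q 1 - P 1 * Q 0 ≠ 0)
    (hP : P 3 = 0) (hQ : Q 3 = 0) (hv3 : v 3 = 0) (hw3 : w 3 = 0) (hvP : ∑ a, v a * P a = 0)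
    (hvQ : ∑ a, v a * Q a = 0) (hwP : ∑ a, w a * P a = 0) (hwQ : ∑ a, w a * Q a = 0) (a b : Fin 4) :
    v a * w b = v b * w a := by
  rw [Fin.sum_univ_four] at hvP hvQ hwP hwQ
  rw [hP, mul_zero, add_zero] at hvP hwP
  rw [hQ, mul_zero, add_zero] at hvQ hwQ
  have a0 : v 0 * (P 0 * Q 1 - P 1 * Q 0) = v 2 * (P 1 * Q 2 - P 2 * Q 1) := by
    linear_combination Q 1 * hvP - P 1 * hvQ
  have a1 : v 1 * (P 0 * Q 1 - P 1 * Q 0) = v 2 * (P 2 * Q 0 - P 0 * Q 2) := by
    linear_combination P 0 * hvQ - Q 0 * hvP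
  have b0 : w 0 * (P 0 * Q 1 - P 1 * Q 0) = w 2 * (P 1 * Q 2 - P 2 * Q 1) := by
    linear_combination Q 1 * hwP - P 1 * hwQ
  have b1 : w 1 * (P 0 * Q 1 - P 1 * Q 0) = w 2 * (P 2 * Q 0 - P 0 * Q 2) := by
    linear_combination P 0 * hwQ - Q 0 * hwP
  have c01 : v 0 * w 1 = v 1 * w 0 := by
    apply mul_left_cancel₀ (pow_ne_zero 2 hW)
    linear_combination (w 1 * (P 0 * Q 1 - P 1 * Q 0)) * a0 + (v 2 * (P 1 * Q 2 - P 2 * Q 1)) * b1 -
      (w 0 * (P 0 * Q 1 - P 1 * Q 0)) * a1 - (v 2 * (P 2 * Q 0 - P 0 * Q 2)) * b0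
  have c02 : v 0 * w 2 = v 2 * w 0 := by
    apply mul_left_cancel₀ hW
    linear_combination w 2 * a0 - v 2 * b0
  have c12 : v 1 * w 2 = v 2 * w 1 := by
    apply mul_left_cancel₀ hW
    linear_combination w 2 * a1 - v 2 * b1
  fin_cases a <;> fin_cases b <;>
    simp only [Fin.zero_eta, Fin.mk_one, Fin.reduceFinMk, hv3, hw3, zero_mul, mul_zero, c01, c02, c12]

variable [IsAlgClosed k] [CharZero k]

omit [IsAlgClosed k] [CharZero k] in
theorem li3 {y : Fin 4 → MvPolynomial (Fin 2) k} (h : LinearIndependent k ![y 0, y 1, y 2]) {x₀ x₁ x₂ : k}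
    (h0 : C x₀ * y 0 + C x₁ * y 1 + C x₂ * y 2 = 0) : x₀ = 0 ∧ x₁ = 0 ∧ x₂ = 0 := by
  rw [Fintype.linearIndependent_iff] at h
  have := h ![x₀, x₁, x₂] (by rw [Fin.sum_univ_three]; simpa [MvPolynomial.smul_eq_C_mul] using h0)
  exact ⟨this 0, this 1, this 2⟩

/-- The Jacobian of two members of an independent triple. -/
theorem wronskian_ne {y : Fin 4 → MvPolynomial (Fin 2) k} {n : ℕ} (hy : ∀ a, (y a).IsHomogeneous (n + 1))
    (h : LinearIndependent k ![y 0, y 1, y 2]) :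
    pderiv 0 (y 0) * pderiv 1 (y 1) - pderiv 0 (y 1) * pderiv 1 (y 0) ≠ 0 := by
  intro h0
  obtain ⟨x, x', hxx, h1⟩ := dep_of_wronskian (hy 0) (hy 1) (by rw [← h0]; ring)
  obtain ⟨h2, h3, -⟩ := li3 h (x₀ := x) (x₁ := x') (x₂ := 0) (by rw [map_zero, zero_mul, add_zero]; exact h1)
  rcases hxx with h4 | h4
  · exact h4 h2
  · exact h4 h3

/-- `γ` has no common zeros. -/
theorem gamma_nz {Y γ : Fin 4 → MvPolynomial (Fin 2) k} (hY : ∀ a, (Y a).IsHomogeneous 4) (hY3 : Y 3 = 0)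
    (hYnz : ∀ P : Fin 2 → k, P ≠ 0 → ∃ a, eval P (Y a) ≠ 0) (hγ : ∀ a, (γ a).IsHomogeneous 3)
    (hγli : LinearIndependent k ![γ 0, γ 1, γ 2]) (hγY' : ∀ i, ∑ a, pderiv i (γ a) * Y a = 0) (Q : Fin 2 → k)
    (hQ : Q ≠ 0) : ∃ a, eval Q (γ a) ≠ 0 := by
  by_contra hcon
  push Not at hcon
  have hp := hγY' 0
  have hq := hγY' 1
  rw [Fin.sum_univ_four, hY3, mul_zero, add_zero] at hp hq
  set p : Fin 4 → MvPolynomial (Fin 2) k := fun a => pderiv 0 (γ a) with hpd
  set q : Fin 4 → MvPolynomial (Fin 2) k := fun a => pderiv 1 (γ a) with hqd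
  change p 0 * Y 0 + p 1 * Y 1 + p 2 * Y 2 = 0 at hp
  change q 0 * Y 0 + q 1 * Y 1 + q 2 * Y 2 = 0 at hq
  let N : Fin 4 → MvPolynomial (Fin 2) k := ![p 1 * q 2 - p 2 * q 1, p 2 * q 0 - p 0 * q 2,
    p 0 * q 1 - p 1 * q 0, 0]
  have hph : ∀ a, (p a).IsHomogeneous 2 := fun a => isHomogeneous_pderiv (hγ a) 0
  have hqh : ∀ a, (q a).IsHomogeneous 2 := fun a => isHomogeneous_pderiv (hγ a) 1
  have hNh : ∀ a, (N a).IsHomogeneous 4 := by
    intro a
    fin_cases a
    exacts [((hph 1).mul (hqh 2)).sub ((hph 2).mul (hqh 1)), ((hph 2).mul (hqh 0)).sub ((hph 0).mul (hqh 2)),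
      ((hph 0).mul (hqh 1)).sub ((hph 1).mul (hqh 0)), isHomogeneous_zero _ _ _]
  have c01 : N 0 * Y 1 = N 1 * Y 0 := by
    change (p 1 * q 2 - p 2 * q 1) * Y 1 = (p 2 * q 0 - p 0 * q 2) * Y 0
    linear_combination q 2 * hp - p 2 * hq
  have c02 : N 0 * Y 2 = N 2 * Y 0 := by
    change (p 1 * q 2 - p 2 * q 1) * Y 2 = (p 0 * q 1 - p 1 * q 0) * Y 0
    linear_combination p 1 * hq - q 1 * hp
  have c12 : N 1 * Y 2 = N 2 * Y 1 := by
    change (p 2 * q 0 - p 0 * q 2) * Y 2 = (p 0 * q 1 - p 1 * q 0) * Y 1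
    linear_combination q 0 * hp - p 0 * hq
  have hN3 : N 3 = 0 := rfl
  have hpar : ∀ a b, N a * Y b = N b * Y a := by
    intro a b
    fin_cases a <;> fin_cases b <;>
      simp only [Fin.zero_eta, Fin.mk_one, Fin.reduceFinMk, hY3, hN3, zero_mul, mul_zero, c01, c02, c12]
  have hN2 : N 2 ≠ 0 := wronskian_ne (n := 2) hγ hγli
  rcases exists_mul_of_prim hY hNh hpar hYnz with h | ⟨d, g, hd, hg, hg0, hN⟩
  · exact hN2 (h 2)
  · obtain rfl : d = 0 := by omega
    obtain ⟨κ, rfl⟩ := eq_C_of_isHomogeneous_zero hg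
    have hκ : κ ≠ 0 := by
      rintro rfl
      exact hg0 (map_zero _)
    have hE : ∀ a, Q 0 * eval Q (p a) + Q 1 * eval Q (q a) = 0 := fun a => by
      have := congrArg (eval Q) (euler (hγ a))
      rw [map_mul, hcon a, mul_zero] at this
      simpa using this
    have hNQ : ∀ a, eval Q (N a) = 0 := by
      have key : ∀ b c, eval Q (p b * q c - p c * q b) = 0 := by
        intro b c
        rw [map_sub, map_mul, map_mul]
        have h1 : Q 0 * (eval Q (p b) * eval Q (q c) - eval Q (p c) * eval Q (q b)) = 0 := by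
          linear_combination eval Q (q c) * hE b - eval Q (q b) * hE c
        have h2 : Q 1 * (eval Q (p b) * eval Q (q c) - eval Q (p c) * eval Q (q b)) = 0 := by
          linear_combination eval Q (p b) * hE c - eval Q (p c) * hE b
        by_contra h3
        apply hQ
        ext i
        fin_cases i
        · exact (mul_eq_zero.1 h1).resolve_right h3
        · exact (mul_eq_zero.1 h2).resolve_right h3
      intro a
      fin_cases a
      exacts [key 1 2, key 2 0, key 0 1, map_zero _]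
    obtain ⟨a, ha⟩ := hYnz Q hQ
    have h4 := hNQ a
    rw [hN a, map_mul, eval_C] at h4
    exact (mul_ne_zero hκ ha) h4

/-- **The end of CASE-II.** -/
theorem main {τ : Fin 4 → Fin 4 → Fin 4 → k} (symm₁ : ∀ a b d, τ a b d = τ b a d)
    (symm₂ : ∀ a b d, τ a b d = τ a d b) (noSing : NoSing τ) {c Y γ : Fin 4 → MvPolynomial (Fin 2) k}
    {m' u : MvPolynomial (Fin 2) k} (hY : ∀ a, (Y a).IsHomogeneous 4) (hY3 : Y 3 = 0)
    (hYnz : ∀ P : Fin 2 → k, P ≠ 0 → ∃ a, eval P (Y a) ≠ 0) (hYli : LinearIndependent k ![Y 0, Y 1, Y 2])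
    (hγ : ∀ a, (γ a).IsHomogeneous 3) (hγ3 : γ 3 = 0) (hγli : LinearIndependent k ![γ 0, γ 1, γ 2])
    (hγY : ∑ a, γ a * Y a = 0) (hγY' : ∀ i, ∑ a, pderiv i (γ a) * Y a = 0)
    (hA1 : tri τ Y Y (Pi.single 3 1) = 0) (hA2 : ∀ a, τ a 3 3 = 0) (hYYY : tri τ Y Y Y = 0)
    (hc : c = m' • Y + c 3 • Pi.single 3 1) (u0 : u ≠ 0)
    (eqn : ∀ a, tri τ c c (Pi.single a 1) = u * γ a) : False := by
  have h2 : (2 : MvPolynomial (Fin 2) k) ≠ 0 := by
    have : ((2 : ℕ) : MvPolynomial (Fin 2) k) ≠ 0 := Nat.cast_ne_zero.2 two_ne_zero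
    exact_mod_cast this
  have h3 : (3 : MvPolynomial (Fin 2) k) ≠ 0 := by
    have : ((3 : ℕ) : MvPolynomial (Fin 2) k) ≠ 0 := Nat.cast_ne_zero.2 three_ne_zero
    exact_mod_cast this
  let β : Fin 4 → MvPolynomial (Fin 2) k := fun a => tri τ Y (e 3) (e a)
  let δ : Fin 4 → MvPolynomial (Fin 2) k := fun a => tri τ Y Y (e a)
  have hA3 : ∀ a, τ 3 3 a = 0 := fun a => by rw [symm₂, symm₁, hA2]
  have hβ3 : β 3 = 0 := by
    change tri τ Y (e 3) (e 3) = 0
    rw [tri_e_e symm₁ symm₂]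
    exact Finset.sum_eq_zero fun d _ => by rw [hA3, map_zero, mul_zero]
  have hδ3 : δ 3 = 0 := hA1
  have hβh : ∀ a, (β a).IsHomogeneous 4 := fun a => isHomogeneous_tri τ hY (hom_e 3) (hom_e a)
  have hδh : ∀ a, (δ a).IsHomogeneous 8 := fun a => isHomogeneous_tri τ hY hY (hom_e a)
  have hdY3 : ∀ i, pderiv i (Y 3) = 0 := fun i => by rw [hY3, map_zero]
  have hβd : ∀ i, ∑ a, β a * pderiv i (Y a) = 0 := by
    intro i
    have h4 := tri_dd_two symm₁ symm₂ i Y 3
    have h5 : tri τ Y Y (e 3) = 0 := hA1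
    rw [h5, map_zero] at h4
    have h6 := (mul_eq_zero.1 h4.symm).resolve_left h2
    rw [tri_eq_sum₃] at h6
    rw [← h6]
    exact Finset.sum_congr rfl fun a _ => mul_comm _ _
  have hδd : ∀ i, ∑ a, δ a * pderiv i (Y a) = 0 := by
    intro i
    have h4 := tri_dd_three symm₁ symm₂ i Y
    rw [hYYY, map_zero] at h4
    have h6 := (mul_eq_zero.1 h4.symm).resolve_left h3
    rw [tri_eq_sum₃] at h6
    rw [← h6]
    exact Finset.sum_congr rfl fun a _ => mul_comm _ _
  have hγd : ∀ i, ∑ a, γ a * pderiv i (Y a) = 0 := by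
    intro i
    have h4 := congrArg (pderiv i) hγY
    rw [map_zero, map_sum] at h4
    have h5 : ∑ a, pderiv i (γ a * Y a) = ∑ a, pderiv i (γ a) * Y a + ∑ a, γ a * pderiv i (Y a) := by
      rw [← Finset.sum_add_distrib]
      exact Finset.sum_congr rfl fun a _ => by rw [pderiv_mul]
    rw [h5, hγY' i, zero_add] at h4
    exact h4
  have hW : pderiv 0 (Y 0) * pderiv 1 (Y 1) - pderiv 0 (Y 1) * pderiv 1 (Y 0) ≠ 0 := wronskian_ne (n := 3) hY hYli
  have hparβ : ∀ a b, β a * γ b = β b * γ a :=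
    par (P := fun a => pderiv 0 (Y a)) (Q := fun a => pderiv 1 (Y a)) hW (hdY3 0) (hdY3 1) hβ3 hγ3 (hβd 0) (hβd 1)
      (hγd 0) (hγd 1)
  have hparδ : ∀ a b, δ a * γ b = δ b * γ a :=
    par (P := fun a => pderiv 0 (Y a)) (Q := fun a => pderiv 1 (Y a)) hW (hdY3 0) (hdY3 1) hδ3 hγ3 (hδd 0) (hδd 1)
      (hγd 0) (hγd 1)
  have hγnz := gamma_nz hY hY3 hYnz hγ hγli hγY'
  have hδ5 : ∃ h5 : MvPolynomial (Fin 2) k, h5.IsHomogeneous 5 ∧ ∀ a, δ a = h5 * γ a := by
    rcases exists_mul_of_prim hγ hδh hparδ hγnz with h | ⟨d, g, hd, hg, -, h⟩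
    · exact ⟨0, isHomogeneous_zero _ _ _, fun a => by rw [h a, zero_mul]⟩
    · obtain rfl : d = 5 := by omega
      exact ⟨g, hg, h⟩
  obtain ⟨h5, hh5, hδ⟩ := hδ5
  rcases exists_mul_of_prim hγ hβh hparβ hγnz with hβ0 | ⟨d, h, hd, hh, hh0, hβ⟩
  · -- `β = 0`
    have hτ : ∀ a b, τ 3 a b = 0 := by
      intro a b
      have h6 : ∑ d, Y d * C (τ 3 a d) = 0 := by
        rw [← tri_e_e symm₁ symm₂]; exact hβ0 a
      rw [Fin.sum_univ_four, hY3, zero_mul, add_zero] at h6
      obtain ⟨x0, x1, x2⟩ := li3 hYli (x₀ := τ 3 a 0) (x₁ := τ 3 a 1) (x₂ := τ 3 a 2) (by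
        rw [← h6]; ring)
      fin_cases b
      exacts [x0, x1, x2, by change τ 3 a 3 = 0; rw [symm₂]; exact hA3 a]
    have h3z : ∀ x a, tri τ x (e 3) (e a) = 0 := fun x a => by
      rw [tri_e_e symm₁ symm₂]
      exact Finset.sum_eq_zero fun d _ => by rw [hτ, map_zero, mul_zero]
    have hcc : ∀ a, tri τ c c (e a) = m' ^ 2 * δ a := by
      intro a
      rw [hc]
      change tri τ (m' • Y + c 3 • e 3) (m' • Y + c 3 • e 3) (e a) = _
      rw [tri_sq symm₁ symm₂ hA2, h3z, tri_smul₁, tri_smul₂]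
      change m' * (m' * δ a) + _ = _
      ring
    have hh50 : h5 ≠ 0 := by
      rintro rfl
      have h6 : ∀ a, γ a = 0 := fun a => by
        have h7 : u * γ a = 0 := by
          rw [← eqn a]
          change tri τ c c (e a) = 0
          rw [hcc, hδ]
          ring
        exact (mul_eq_zero.1 h7).resolve_left u0
      have := hγli.ne_zero 0
      exact this (h6 0)
    obtain ⟨Q, hQ, hQ5⟩ := exists_zero (n := 4) hh5
    let w : Fin 4 → MvPolynomial (Fin 2) k := (X 0 : MvPolynomial (Fin 2) k) • cv (fun a => eval Q (Y a)) +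
      (X 1 : MvPolynomial (Fin 2) k) • e 3
    have hwa : ∀ a, w a = X 0 * C (eval Q (Y a)) + X 1 * e 3 a := fun a => rfl
    refine noSing 1 w le_rfl (fun a => ?_) (fun P hP => ?_) fun a => ?_
    · rw [hwa]
      exact (by simpa using (isHomogeneous_X k (0 : Fin 2)).mul (isHomogeneous_C (Fin 2) (eval Q (Y a))) :
        (X 0 * C (eval Q (Y a)) : MvPolynomial (Fin 2) k).IsHomogeneous 1).add
        (by simpa using (isHomogeneous_X k (1 : Fin 2)).mul (hom_e 3 a))
    · by_cases hP1 : P 1 = 0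
      · have hP0 : P 0 ≠ 0 := by
          intro h6
          apply hP
          ext i; fin_cases i
          exacts [h6, hP1]
        obtain ⟨a, ha⟩ := hYnz Q hQ
        refine ⟨a, ?_⟩
        rw [hwa, map_add, map_mul, map_mul, eval_X, eval_X, eval_C, hP1, zero_mul, add_zero]
        exact mul_ne_zero hP0 ha
      · refine ⟨3, ?_⟩
        rw [hwa, hY3, map_zero, map_zero, mul_zero, zero_add, map_mul, eval_X, e, Pi.single_eq_same, map_one, mul_one]
        exact hP1
    · change tri τ w w (e a) = 0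
      have h6 : tri τ (cv fun a => eval Q (Y a)) (cv fun a => eval Q (Y a)) (e a) = C (eval Q (δ a)) := by
        have : ∀ b, (e (k := k) a b) = C (eval Q (e (k := k) a b)) := fun b => by
          rw [e, Pi.single_apply]; split_ifs <;> simp
        simp only [δ, tri, map_sum, map_mul, cv, eval_C]
        refine Finset.sum_congr rfl fun x _ => Finset.sum_congr rfl fun y _ => Finset.sum_congr rfl fun z _ => ?_
        rw [← this z]
      rw [show w = (X 0 : MvPolynomial (Fin 2) k) • cv (fun a => eval Q (Y a)) +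
        (X 1 : MvPolynomial (Fin 2) k) • e 3 from rfl, tri_sq symm₁ symm₂ hA2, h3z, tri_smul₁, tri_smul₂, h6, hδ,
        map_mul, hQ5, zero_mul, map_zero]
      ring
  · -- `β = h γ`, `h ≠ 0`
    obtain rfl : d = 1 := by omega
    obtain ⟨P, hP, hPh⟩ := exists_zero (n := 0) hh
    obtain ⟨B, hB, hhB⟩ := exists_lin_mul (n := 0) hh hP hPh
    obtain ⟨κ, rfl⟩ := eq_C_of_isHomogeneous_zero hB
    have hκ : κ ≠ 0 := by
      rintro rfl
      apply hh0
      rw [hhB, map_zero, mul_zero]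
    by_cases h5P : eval P h5 = 0
    · obtain ⟨h4', hh4', h45⟩ := exists_lin_mul (n := 4) hh5 hP h5P
      -- `h4 = κ⁻¹ h4'`, `h5 = h h4`
      set h4 : MvPolynomial (Fin 2) k := C κ⁻¹ * h4' with hh4
      have hh4h : h4.IsHomogeneous 4 := by simpa using (isHomogeneous_C (Fin 2) κ⁻¹).mul hh4'
      have hhh : h5 = h * h4 := by
        rw [h45, hhB, hh4]
        have : (C κ * C κ⁻¹ : MvPolynomial (Fin 2) k) = 1 := by rw [← map_mul, mul_inv_cancel₀ hκ, map_one]
        linear_combination (-(lin P * h4')) * this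
      let w : Fin 4 → MvPolynomial (Fin 2) k := (2 : MvPolynomial (Fin 2) k) • Y + (-h4) • e 3
      have hwa : ∀ a, w a = 2 * Y a + (-h4) * e 3 a := fun a => rfl
      refine noSing 4 w (by norm_num) (fun a => ?_) (fun Q hQ => ?_) fun a => ?_
      · rw [hwa]
        refine IsHomogeneous.add ?_ ?_
        · have : (2 : MvPolynomial (Fin 2) k) = C 2 := (map_ofNat C 2).symm
          rw [this]
          simpa using (isHomogeneous_C (Fin 2) (2 : k)).mul (hY a)
        · simpa using (hh4h.neg).mul (hom_e 3 a)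
      · obtain ⟨a, ha⟩ := hYnz Q hQ
        refine ⟨a, ?_⟩
        have ha3 : a ≠ 3 := by
          rintro rfl
          rw [hY3, map_zero] at ha
          exact ha rfl
        rw [hwa, e, Pi.single_eq_of_ne ha3, mul_zero, add_zero, map_mul]
        refine mul_ne_zero ?_ ha
        simp
      · change tri τ _ _ (e a) = 0
        rw [tri_sq symm₁ symm₂ hA2, tri_smul₁, tri_smul₂, tri_smul₁]
        change 2 * (2 * δ a) + 2 * -h4 * (2 * β a) = 0
        rw [hδ, hβ, hhh]
        ring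
    · let w : Fin 4 → MvPolynomial (Fin 2) k := (2 * h) • Y + (-h5) • e 3
      have hwa : ∀ a, w a = 2 * h * Y a + (-h5) * e 3 a := fun a => rfl
      refine noSing 5 w (by norm_num) (fun a => ?_) (fun Q hQ => ?_) fun a => ?_
      · rw [hwa]
        refine IsHomogeneous.add ?_ ?_
        · have : (2 : MvPolynomial (Fin 2) k) = C 2 := (map_ofNat C 2).symm
          rw [this, mul_assoc]
          have h6 := (isHomogeneous_C (Fin 2) (2 : k)).mul (hh.mul (hY a))
          rwa [zero_add] at h6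
        · have h6 := (hh5.neg).mul (hom_e 3 a)
          rwa [add_zero] at h6
      · by_cases hQh : eval Q h = 0
        · refine ⟨3, ?_⟩
          rw [hwa, hY3, mul_zero, zero_add, e, Pi.single_eq_same, mul_one, map_neg]
          refine neg_ne_zero.2 ?_
          rw [hhB, map_mul, eval_C] at hQh
          obtain ⟨t, ht⟩ := exists_smul_of_eval_lin hP ((mul_eq_zero.1 hQh).resolve_right hκ)
          rw [ht, eval_smul_of_isHomogeneous hh5]
          refine mul_ne_zero (pow_ne_zero _ ?_) h5P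
          rintro rfl
          rw [zero_smul] at ht
          exact hQ ht
        · obtain ⟨a, ha⟩ := hYnz Q hQ
          refine ⟨a, ?_⟩
          have ha3 : a ≠ 3 := by
            rintro rfl
            rw [hY3, map_zero] at ha
            exact ha rfl
          rw [hwa, e, Pi.single_eq_of_ne ha3, mul_zero, add_zero, map_mul, map_mul]
          refine mul_ne_zero (mul_ne_zero ?_ hQh) ha
          simp
      · change tri τ _ _ (e a) = 0
        rw [tri_sq symm₁ symm₂ hA2, tri_smul₁, tri_smul₂, tri_smul₁]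
        change 2 * h * (2 * h * δ a) + 2 * -h5 * (2 * h * β a) = 0
        rw [hδ, hβ]
        ring

end K483.CaseIIEnd
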