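import Groth.Agent.Fano.K475.RatClass
import Groth.Agent.Fano.K475.ConForm
import Groth.Agent.Fano.K387.RatNormal
import Groth.Agent.VarietyB.ProjGlue
import Mathlib.RingTheory.Nullstellensatz

/-!
# Parametrised rational curves without multiple points: existence and closed immersions

For coefficient vectors `c : Fin (d + 1) → Fin 5 → k`:
* `mono_of_sep`, `isClosedImmersion_of_sep`: a separating parametrisation (`K475.RatAlg.Sep`) is a closed immersion;
* `exists_isPar`: a parametrisation without base points of a curve on `V_+(f)` defines a morphism `P^1 → V_+(f)`.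
-/

set_option autoImplicit false
universe u

open CategoryTheory AlgebraicGeometry Limits TopologicalSpace Opposite

namespace K483.SepCl

open LefPen Groth.Agent.Fdesc.LocGen Groth.Agent.Fano.K714.Rat K475.PtCoord K475.RatAlg K390.PnSec K330.FormSec
open Groth.Agent.Ega2.H295.PnCoord Groth.Agent.Lefpen.H705.HypIdeal Groth.Agent.Lefpen.H705.SecIdeal

variable {k : Type u} [Field k]

section Mono

variable {n : ℕ} {S : Scheme.{u}}

/-- Coordinates of a morphism into a standard chart. -/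
theorem exists_coord (P : S ⟶ CohB1.ProjSpace n k) (j : Fin (n + 1)) (hU : (⊤ : S.Opens) ≤ P ⁻¹ᵁ chart n k j) :
    ∃ b : Fin (n + 1) → Γ(S, ⊤), IsUnit (b j) ∧ HasCoord P b := by
  obtain ⟨g, hg1, hg2⟩ := exists_gen_pull (d := 1) P j
  refine ⟨fun l => eqn P j ⊤ hU (XF n k l), ?_, _, res _ hU g, hg1.res hU, ?_⟩
  · have h6 : eqn P j ⊤ hU (XF n k j) = 1 := by
      rw [Groth.Agent.Lefpen.H708.Geo.eqn_eq]
      change Groth.Agent.Lefpen.H708.Geo.coordU P j ⊤ hU
        (Groth.Agent.Sga5.ProjChart.dehom n k j (MvPolynomial.X j)) = 1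
      rw [Groth.Agent.Sga5.ProjChart.dehom_X_self, map_one]
    have h7 : IsUnit (eqn P j ⊤ hU (XF n k j)) := by rw [h6]; exact isUnit_one
    exact h7
  · have h4 : (fun l => eqn P j ⊤ hU (XF n k l) • res _ hU g) = fun m => tsec P m := by
      funext m
      have h5 := congrArg (res _ hU) (hg2 (XF n k m))
      rw [res_res, res_refl, res_smul, ores_eqn] at h5
      exact h5.symm
    rw [h4]
    exact GivenBy.refl P

variable {d : ℕ} {r : CohB1.ProjSpace 1 k ⟶ CohB1.ProjSpace 4 k} {c : Fin (d + 1) → Fin 5 → k}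

theorem eq_of_comp (hr : r ≫ CohB1.ProjSpace.toSpec 4 k = CohB1.ProjSpace.toSpec 1 k)
    (hc : GivenBy r (Twist.twistProjSpace 1 k (d : ℤ)) (fun l => glob (bform c l))) (hs : Sep c)
    [Nonempty S] (P P' : S ⟶ CohB1.ProjSpace 1 k) (h : P ≫ r = P' ≫ r) (j j' : Fin 2)
    (hj : (⊤ : S.Opens) ≤ P ⁻¹ᵁ chart 1 k j) (hj' : (⊤ : S.Opens) ≤ P' ⁻¹ᵁ chart 1 k j') : P = P' := by
  obtain ⟨b, hb, hP⟩ := exists_coord P j hj
  obtain ⟨b', hb', hP'⟩ := exists_coord P' j' hj'
  have hq : P ≫ CohB1.ProjSpace.toSpec 1 k = P' ≫ CohB1.ProjSpace.toSpec 1 k := by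
    rw [← hr, ← Category.assoc, h, Category.assoc]
  have h1 := hP.comp hb hc
  have h2 := hP'.comp hb' hc
  rw [h] at h1
  rw [← hq] at h2
  obtain ⟨u, hu, huv⟩ := h1.exists_unit h2
  let q := P ≫ CohB1.ProjSpace.toSpec 1 k
  let : Algebra k Γ(S, ⊤) := (cst q).toAlgebra
  have hnt : Nontrivial Γ(S, ⊤) := by
    obtain ⟨y⟩ := ‹Nonempty S›
    exact (S.presheaf.germ ⊤ y trivial).hom.domain_nontrivial
  have hv : ∀ (x : Fin 2 → Γ(S, ⊤)) (l : Fin 5), val q x (bform c l) = ev c x l := fun x l => eval₂_bform c x l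
  obtain ⟨v, hv'⟩ := hs Γ(S, ⊤) b b' j j' u hb hb' hu fun l => by
    rw [← hv, ← hv]
    exact huv l
  have hvu : IsUnit v := by
    have h3 := hb'
    rw [hv' j'] at h3
    exact isUnit_of_mul_isUnit_left h3
  have h4 := hP.smul hvu
  have h5 : (fun l => v * b l) = b' := funext fun l => (hv' l).symm
  rw [h5] at h4
  exact h4.unique hP' hq

theorem mono_of_sep (hr : r ≫ CohB1.ProjSpace.toSpec 4 k = CohB1.ProjSpace.toSpec 1 k)
    (hc : GivenBy r (Twist.twistProjSpace 1 k (d : ℤ)) (fun l => glob (bform c l))) (hs : Sep c) : Mono r := by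
  refine ⟨fun {T} P P' h => ?_⟩
  let W : T → T.Opens := fun x =>
    P ⁻¹ᵁ chart 1 k (Groth.Agent.PerfB.ProjSpaceCover.exists_mem_basicOpen_X 1 k (P x)).choose ⊓
      P' ⁻¹ᵁ chart 1 k (Groth.Agent.PerfB.ProjSpaceCover.exists_mem_basicOpen_X 1 k (P' x)).choose
  have hW : ∀ x, x ∈ W x := fun x =>
    ⟨(Groth.Agent.PerfB.ProjSpaceCover.exists_mem_basicOpen_X 1 k (P x)).choose_spec,
      (Groth.Agent.PerfB.ProjSpaceCover.exists_mem_basicOpen_X 1 k (P' x)).choose_spec⟩
  refine Groth.Agent.VarietyB.ProjGlue.hom_ext_opens W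
    (by rw [eq_top_iff]; intro x _; exact Opens.mem_iSup.2 ⟨x, hW x⟩) P P' fun x => ?_
  have : Nonempty (W x) := ⟨⟨x, hW x⟩⟩
  refine eq_of_comp hr hc hs ((W x).ι ≫ P) ((W x).ι ≫ P') (by rw [Category.assoc, Category.assoc, h])
    (Groth.Agent.PerfB.ProjSpaceCover.exists_mem_basicOpen_X 1 k (P x)).choose
    (Groth.Agent.PerfB.ProjSpaceCover.exists_mem_basicOpen_X 1 k (P' x)).choose ?_ ?_
  · rintro ⟨y, hy⟩ -
    exact hy.1
  · rintro ⟨y, hy⟩ -
    exact hy.2

end Mono

theorem isClosedImmersion_of_sep (f : Form 4 k 3) {d : ℕ} {c : Fin (d + 1) → Fin 5 → k} (hs : Sep c)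
    {i : CohB1.ProjSpace 1 k ⟶ Xf f} (hi : IsPar f d c i) : IsClosedImmersion i := by
  have hr : (i ≫ emb f) ≫ CohB1.ProjSpace.toSpec 4 k = CohB1.ProjSpace.toSpec 1 k := by
    rw [Category.assoc]; exact hi.1
  have h1 : Mono (i ≫ emb f) := mono_of_sep hr hi.2 hs
  have h4 := Groth.Agent.Ega3B.ProjProper.isProper_toSpec 4 k
  have h5 := Groth.Agent.Ega3B.ProjProper.isProper_toSpec 1 k
  have h2 : IsProper (i ≫ emb f) := by
    have h3 : IsProper ((i ≫ emb f) ≫ CohB1.ProjSpace.toSpec 4 k) := by rw [hr]; exact h5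
    exact IsProper.of_comp (i ≫ emb f) (CohB1.ProjSpace.toSpec 4 k)
  have h3 : IsClosedImmersion (i ≫ emb f) := (IsClosedImmersion.iff_isProper_and_mono _).2 ⟨h2, h1⟩
  exact IsClosedImmersion.of_comp i (emb f)

section Exists

variable {d : ℕ} {c : Fin (d + 1) → Fin 5 → k}

/-- The forms generate up to radical. -/
theorem exists_notMem [IsAlgClosed k] (hn : Nz c) (x : CohB1.ProjSpace 1 k) :
    ∃ l, (bform c l).1 ∉ (show ProjectiveSpectrum (CohB1.polyGrading 1 k) from x).asHomogeneousIdeal := by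
  by_contra hcon
  push Not at hcon
  let 𝔭 := (show ProjectiveSpectrum (CohB1.polyGrading 1 k) from x).asHomogeneousIdeal.toIdeal
  let I : Ideal (MvPolynomial (Fin 2) k) := Ideal.span (Set.range fun l => (bform c l).1)
  have hI : I ≤ 𝔭 := by
    rw [Ideal.span_le]
    rintro _ ⟨l, rfl⟩
    exact hcon l
  have hp : 𝔭.IsPrime := (show ProjectiveSpectrum (CohB1.polyGrading 1 k) from x).isPrime
  obtain ⟨j, hj⟩ := Groth.Agent.FormalB.TwistGen.exists_X_notMem (n := 1) (S := k) x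
  apply hj
  have h1 : MvPolynomial.X j ∈ I.radical := by
    rw [← MvPolynomial.vanishingIdeal_zeroLocus_eq_radical (K := k) I, MvPolynomial.mem_vanishingIdeal_iff]
    intro y hy
    rw [MvPolynomial.mem_zeroLocus_iff] at hy
    by_cases hy0 : y = 0
    · rw [hy0]
      simp
    · exfalso
      obtain ⟨l, hl⟩ := hn y hy0
      apply hl
      have h2 := hy (bform c l).1 (Ideal.subset_span ⟨l, rfl⟩)
      rw [← eval₂_bform]
      exact h2
  exact hp.radical_le_iff.2 hI h1

theorem exists_isPar [IsAlgClosed k] (f : Form 4 k 3) (hn : Nz c)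
    (h0 : ∀ s t : k, MvPolynomial.eval (cpt c s t) f.1 = 0) : ∃ i : CohB1.ProjSpace 1 k ⟶ Xf f, IsPar f d c i := by
  have hinf : Infinite k := IsAlgClosed.instInfinite
  obtain ⟨r, hr, hg⟩ := exists_givenBy (n := 4) (CohB1.ProjSpace.toSpec 1 k)
    (M := Twist.twistProjSpace 1 k (d : ℤ)) (fun l => glob (bform c l)) (by
      rw [eq_top_iff]
      intro x _
      obtain ⟨l, hl⟩ := exists_notMem hn x
      refine Opens.mem_iSup.2 ⟨l, ?_⟩
      have h1 := K387.FormProj.isGen_gl (m := 1) (A := k) (d := d) (bform c l)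
        (U := Proj.basicOpen (CohB1.polyGrading 1 k) (bform c l).1) le_rfl
      have h2 : (show (CohB1.ProjSpace 1 k).Opens from Proj.basicOpen (CohB1.polyGrading 1 k) (bform c l).1) ≤
          CohB1.genLocus (Twist.twistProjSpace 1 k (d : ℤ)) (homOf (glob (bform c l))) := by
        refine (le_genLocus_iff _ _).2 ?_
        rw [sec_homOf]
        exact h1
      exact h2 hl)
  have hf : f.1.IsHomogeneous 3 := (MvPolynomial.mem_homogeneousSubmodule _ _).1 f.2
  obtain ⟨i, hi⟩ := K387.RatNormal.exists_lift f r fun j => by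
    have h1 := K475.ConForm.rho_dl (𝟙 _) r (bform c) (by rw [Category.id_comp]; exact hg)
      (by rw [Category.id_comp]; exact hr) hf (K387.RatNormal.aeval_bform f h0) j
    rw [K475.ConForm.dl_form j f] at h1
    exact h1
  exact ⟨i, by rw [← Category.assoc, hi]; exact hr, by rw [hi]; exact hg⟩

end Exists

end K483.SepCl
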