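import Groth.Agent.Fano.K714.TypeConst2
import Groth.Agent.Fano.K714.ConicIrr
import Groth.Agent.Fano.K714.Frames
import Groth.Agent.Fano.K798.TwBin

/-!
# Common transversals of two skew lines on a smooth cubic threefold

For a line `⟨a, b⟩` on the cubic threefold `T(v,v,v) = 0` and a point `y` the function
`RL T a b y = T(x,x,y)`, `x = T(b,y,y) a - T(a,y,y) b`, vanishes if `y` is joined to the line by a line of the
threefold.

* `no_tangent`: no hyperplane is tangent along a line.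
* `exists_RL_ne_zero`: `RL T a₀ a₁` does not vanish identically on a line skew to `⟨a₀, a₁⟩`.
-/

set_option autoImplicit false
universe u

namespace K483.SkewR

open K656.Trilin Module K714.Surf

variable {k : Type u} [Field k] {T : (Fin 5 → k) →ₗ[k] (Fin 5 → k) →ₗ[k] (Fin 5 → k) →ₗ[k] k}

/-- `T(x,x,y)` for `x = T(b,y,y) a - T(a,y,y) b`. -/
def RL (T : (Fin 5 → k) →ₗ[k] (Fin 5 → k) →ₗ[k] (Fin 5 → k) →ₗ[k] k) (a b y : Fin 5 → k) : k :=
  T a a y * T b y y ^ 2 - 2 * T a b y * (T a y y * T b y y) + T b b y * T a y y ^ 2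

theorem RL_basis (hT : IsSym3 T) (a b y : Fin 5 → k) (p q r s : k) :
    RL T (p • a + q • b) (r • a + s • b) y = (p * s - q * r) ^ 2 * RL T a b y := by
  have h1 : T b a y = T a b y := (hT.s12 _ _ _).symm
  simp only [RL, map_add, map_smul, LinearMap.add_apply, LinearMap.smul_apply, smul_eq_mul, h1]
  ring

/-- a common solution of the two equations of the lines through `y` -/
theorem RL_eq_zero (hT : IsSym3 T) {a b y : Fin 5 → k} {u v : k} (huv : u ≠ 0 ∨ v ≠ 0)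
    (h1 : T (u • a + v • b) (u • a + v • b) y = 0) (h2 : T (u • a + v • b) y y = 0) : RL T a b y = 0 := by
  have e : T b a y = T a b y := (hT.s12 _ _ _).symm
  simp only [map_add, map_smul, LinearMap.add_apply, LinearMap.smul_apply, smul_eq_mul, e] at h1 h2
  rcases huv with hu | hv
  · have h3 : u ^ 2 * RL T a b y = 0 := by
      rw [RL]
      linear_combination T b y y ^ 2 * h1 +
        (-2 * u * T a b y * T b y y + T b b y * (u * T a y y - v * T b y y)) * h2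
    exact (mul_eq_zero.1 h3).resolve_left (pow_ne_zero 2 hu)
  · have h3 : v ^ 2 * RL T a b y = 0 := by
      rw [RL]
      linear_combination T a y y ^ 2 * h1 +
        (-2 * v * T a b y * T a y y + T a a y * (v * T b y y - u * T a y y)) * h2
    exact (mul_eq_zero.1 h3).resolve_left (pow_ne_zero 2 hv)

/-- No hyperplane is tangent along a line. -/
theorem no_tangent [IsAlgClosed k] (hT : IsSym3 T) (hsm : SmoothOn T ⊤) {h : Fin 4 → (Fin 5 → k)}
    (hli : LinearIndependent k h) {z₀ z₁ : Fin 5 → k} (hz : LinearIndependent k ![z₀, z₁])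
    (h00 : ∀ i, T z₀ z₀ (h i) = 0) (h01 : ∀ i, T z₀ z₁ (h i) = 0) (h11 : ∀ i, T z₁ z₁ (h i) = 0) : False := by
  obtain ⟨v, hv⟩ : ∃ v, v ∉ Submodule.span k (Set.range h) := by
    by_contra hcon
    push Not at hcon
    have h1 := finrank_span_eq_card hli
    have h2 : Submodule.span k (Set.range h) = ⊤ := by
      rw [eq_top_iff]; exact fun v _ => hcon v
    rw [h2, finrank_top, Fintype.card_fin] at h1
    simp at h1
  have hsup : Submodule.span k (Set.range h) ⊔ Submodule.span k {v} = ⊤ := by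
    refine Submodule.eq_top_of_finrank_eq ?_
    have h1 : Submodule.span k (Set.range h) < Submodule.span k (Set.range h) ⊔ Submodule.span k {v} := by
      refine lt_of_le_of_ne le_sup_left fun he => hv ?_
      rw [he]
      exact Submodule.mem_sup_right (Submodule.mem_span_singleton_self v)
    have h2 := Submodule.finrank_lt_finrank_of_lt h1
    have h3 := finrank_span_eq_card hli
    have h4 := Submodule.finrank_le (Submodule.span k (Set.range h) ⊔ Submodule.span k {v})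
    rw [Fintype.card_fin] at h3
    simp only [finrank_fintype_fun_eq_card, Fintype.card_fin] at h4 ⊢
    omega
  obtain ⟨s, t, hst, hq⟩ := exists_quad_zero (T z₀ z₀ v) (2 * T z₀ z₁ v) (T z₁ z₁ v)
  have hz0 : s • z₀ + t • z₁ ≠ 0 := by
    intro h0
    obtain ⟨h1, h2⟩ := LinearIndependent.pair_iff.1 hz s t h0
    rcases hst with h | h
    · exact h h1
    · exact h h2
  have key : ∀ w, T (s • z₀ + t • z₁) (s • z₀ + t • z₁) w = 0 := by
    intro w
    have hw : w ∈ Submodule.span k (Set.range h) ⊔ Submodule.span k {v} := by rw [hsup]; trivial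
    obtain ⟨w₁, hw₁, w₂, hw₂, rfl⟩ := Submodule.mem_sup.1 hw
    obtain ⟨r, rfl⟩ := Submodule.mem_span_singleton.1 hw₂
    have e1 : T (s • z₀ + t • z₁) (s • z₀ + t • z₁) w₁ = 0 := by
      refine Submodule.span_induction (p := fun w _ => T (s • z₀ + t • z₁) (s • z₀ + t • z₁) w = 0) ?_ ?_ ?_ ?_ hw₁
      · rintro _ ⟨i, rfl⟩
        rw [hT.sq_smul_add_smul, h00, h01, h11]; ring
      · rw [map_zero]
      · intro x y _ _ hx hy
        rw [map_add, hx, hy, add_zero]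
      · intro c x _ hx
        rw [map_smul, hx, smul_zero]
    rw [map_add, e1, map_smul, hT.sq_smul_add_smul, zero_add, smul_eq_mul]
    linear_combination r * hq
  obtain ⟨w, -, hw⟩ := hsm _ trivial hz0 (key _)
  exact hw (key w)

/-- No plane, in terms of three vectors. -/
theorem no_plane3 [IsAlgClosed k] [CharZero k] (hT : IsSym3 T) (hsm : SmoothOn T ⊤) {p : Fin 3 → (Fin 5 → k)}
    (hli : LinearIndependent k p)
    (h0 : ∀ u v s : k, T (u • p 0 + v • p 1 + s • p 2) (u • p 0 + v • p 1 + s • p 2) (u • p 0 + v • p 1 + s • p 2) = 0) :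
    False := by
  refine K714.TypeConst.no_plane hT (by simp) hsm (P := Submodule.span k (Set.range p)) ?_ ?_
  · rw [finrank_span_eq_card hli, Fintype.card_fin]
  · intro w hw
    obtain ⟨c, rfl⟩ := (Submodule.mem_span_range_iff_exists_fun k).1 hw
    rw [Fin.sum_univ_three]
    exact h0 _ _ _

section

variable [IsAlgClosed k] [CharZero k] {a₀ a₁ n₀ n₁ : Fin 5 → k}

omit [IsAlgClosed k] [CharZero k] in
theorem li4 : LinearIndependent k ![a₀, a₁, n₀, n₁] ↔
    ∀ x y z w : k, x • a₀ + y • a₁ + z • n₀ + w • n₁ = 0 → x = 0 ∧ y = 0 ∧ z = 0 ∧ w = 0 := by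
  rw [Fintype.linearIndependent_iff]
  constructor
  · intro h x y z w h0
    have := h ![x, y, z, w] (by rw [Fin.sum_univ_four]; exact h0)
    exact ⟨this 0, this 1, this 2, this 3⟩
  · intro h g hg
    rw [Fin.sum_univ_four] at hg
    obtain ⟨h0, h1, h2, h3⟩ := h _ _ _ _ hg
    intro i
    fin_cases i
    exacts [h0, h1, h2, h3]

omit [IsAlgClosed k] [CharZero k] in
/-- a product of a linear and the square of a quadratic polynomial function -/
theorem lin_mul_sq [Infinite k] {f₀ f₁ g₀ g₁ g₂ : k}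
    (h : ∀ s : k, (f₀ * s + f₁) * (g₀ * s ^ 2 + g₁ * s + g₂) ^ 2 = 0) :
    (f₀ = 0 ∧ f₁ = 0) ∨ (g₀ = 0 ∧ g₁ = 0 ∧ g₂ = 0) := by
  let P : Polynomial k := Polynomial.C f₀ * Polynomial.X + Polynomial.C f₁
  let G : Polynomial k := Polynomial.C g₀ * Polynomial.X ^ 2 + Polynomial.C g₁ * Polynomial.X + Polynomial.C g₂
  have h1 : P * G ^ 2 = 0 := by
    refine Polynomial.funext fun s => ?_
    simp only [P, G, Polynomial.eval_mul, Polynomial.eval_add, Polynomial.eval_pow, Polynomial.eval_C,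
      Polynomial.eval_X, Polynomial.eval_zero]
    exact h s
  rcases mul_eq_zero.1 h1 with h2 | h2
  · left
    have e0 := congrArg (fun P => Polynomial.coeff P 0) h2
    have e1 := congrArg (fun P => Polynomial.coeff P 1) h2
    simp [P, Polynomial.coeff_X, Polynomial.coeff_C] at e0 e1
    exact ⟨e1, e0⟩
  · right
    have h3 : G = 0 := by simpa using h2
    have e0 := congrArg (fun P => Polynomial.coeff P 0) h3
    have e1 := congrArg (fun P => Polynomial.coeff P 1) h3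
    have e2 := congrArg (fun P => Polynomial.coeff P 2) h3
    simp [G, Polynomial.coeff_X, Polynomial.coeff_C, Polynomial.coeff_X_pow] at e0 e1 e2
    exact ⟨e2, e1, e0⟩

/-- Case B: a point of the line `⟨a₀, a₁⟩` with `T(a₀, y, y) = 0` on `⟨n₀, n₁⟩`. -/
theorem caseB (hT : IsSym3 T) (hsm : SmoothOn T ⊤) (hli : LinearIndependent k ![a₀, a₁, n₀, n₁])
    (ha : ∀ u v : k, T (u • a₀ + v • a₁) (u • a₀ + v • a₁) (u • a₀ + v • a₁) = 0)
    (hn : ∀ u v : k, T (u • n₀ + v • n₁) (u • n₀ + v • n₁) (u • n₀ + v • n₁) = 0)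
    (hR : ∀ s t : k, RL T a₀ a₁ (s • n₀ + t • n₁) = 0)
    (hB : ∀ s t : k, T a₀ (s • n₀ + t • n₁) (s • n₀ + t • n₁) = 0) : False := by
  have hinf : Infinite k := IsAlgClosed.instInfinite
  rw [li4] at hli
  have b0 : T a₀ n₀ n₀ = 0 := by simpa using hB 1 0
  have b2 : T a₀ n₁ n₁ = 0 := by simpa using hB 0 1
  have e : ∀ z, T z n₁ n₀ = T z n₀ n₁ := fun z => hT.s23 _ _ _
  have b1 : T a₀ n₀ n₁ = 0 := by
    have := hB 1 1
    simp only [one_smul, map_add, LinearMap.add_apply, b0, b2, e] at this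
    have h2 : (2 : k) * T a₀ n₀ n₁ = 0 := by linear_combination this
    exact (mul_eq_zero.1 h2).resolve_left two_ne_zero
  have a000 : T a₀ a₀ a₀ = 0 := by simpa using ha 1 0
  have key := lin_mul_sq (f₀ := T a₀ a₀ n₀) (f₁ := T a₀ a₀ n₁) (g₀ := T a₁ n₀ n₀) (g₁ := 2 * T a₁ n₀ n₁)
    (g₂ := T a₁ n₁ n₁) fun s => by
      have := hR s 1
      rw [RL, hB] at this
      simp only [one_smul, map_add, map_smul, LinearMap.add_apply, LinearMap.smul_apply, smul_eq_mul, e] at this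
      linear_combination this
  rcases key with ⟨h1, h2⟩ | ⟨h1, h2, h3⟩
  · refine no_plane3 hT hsm (p := ![a₀, n₀, n₁]) ?_ ?_
    · rw [Fintype.linearIndependent_iff]
      intro g hg
      rw [Fin.sum_univ_three] at hg
      obtain ⟨x0, -, x1, x2⟩ := hli (g 0) 0 (g 1) (g 2) (by rw [← hg]; simp)
      intro i
      fin_cases i
      exacts [x0, x1, x2]
    · intro u v s
      have e1 : u • (![a₀, n₀, n₁] : Fin 3 → _) 0 + v • (![a₀, n₀, n₁] : Fin 3 → _) 1 +
          s • (![a₀, n₀, n₁] : Fin 3 → _) 2 = u • a₀ + (1 : k) • (v • n₀ + s • n₁) := by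
        simp only [Matrix.cons_val]
        module
      rw [e1, hT.cube_smul_add_smul, hn, a000, hB]
      have : T a₀ a₀ (v • n₀ + s • n₁) = 0 := by
        rw [map_add, map_smul, map_smul, h1, h2]; simp
      rw [this]
      ring
  · have h2' : T a₁ n₀ n₁ = 0 := (mul_eq_zero.1 h2).resolve_left two_ne_zero
    have n000 : T n₀ n₀ n₀ = 0 := by simpa using hn 1 0
    have n111 : T n₁ n₁ n₁ = 0 := by simpa using hn 0 1
    have nU : ∀ u ∈ Submodule.span k {n₀, n₁}, T u u u = 0 := by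
      intro u hu
      obtain ⟨x, y, rfl⟩ := Submodule.mem_span_pair.1 hu
      exact hn x y
    have m0 : n₀ ∈ Submodule.span k {n₀, n₁} := Submodule.subset_span (by simp)
    have m1 : n₁ ∈ Submodule.span k {n₀, n₁} := Submodule.subset_span (by simp)
    refine no_tangent hT hsm (h := ![a₀, a₁, n₀, n₁]) (li4.2 hli) (z₀ := n₀) (z₁ := n₁) ?_ ?_ ?_ ?_
    · rw [LinearIndependent.pair_iff]
      intro x y hxy
      obtain ⟨-, -, x0, x1⟩ := hli 0 0 x y (by rw [← hxy]; simp)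
      exact ⟨x0, x1⟩
    · intro i
      fin_cases i
      · exact (hT.rot' n₀ n₀ a₀).trans b0
      · exact (hT.rot' n₀ n₀ a₁).trans h1
      · exact n000
      · exact hT.eq_zero_of_diag _ nU m0 m0 m1
    · intro i
      fin_cases i
      · exact (hT.rot' n₀ n₁ a₀).trans b1
      · exact (hT.rot' n₀ n₁ a₁).trans h2'
      · exact hT.eq_zero_of_diag _ nU m0 m1 m0
      · exact hT.eq_zero_of_diag _ nU m0 m1 m1
    · intro i
      fin_cases i
      · exact (hT.rot' n₁ n₁ a₀).trans b2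
      · exact (hT.rot' n₁ n₁ a₁).trans h3
      · exact hT.eq_zero_of_diag _ nU m1 m1 m0
      · exact n111

/-- the equations of a line -/
def OnX (T : (Fin 5 → k) →ₗ[k] (Fin 5 → k) →ₗ[k] (Fin 5 → k) →ₗ[k] k) (a b : Fin 5 → k) : Prop :=
  ∀ u v : k, T (u • a + v • b) (u • a + v • b) (u • a + v • b) = 0

omit [IsAlgClosed k] [CharZero k] in
theorem OnX.basis (h : OnX T a₀ a₁) (p q r s : k) : OnX T (p • a₀ + q • a₁) (r • a₀ + s • a₁) := by
  intro u v
  have e : u • (p • a₀ + q • a₁) + v • (r • a₀ + s • a₁) = (u * p + v * r) • a₀ + (u * q + v * s) • a₁ := by module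
  rw [e]
  exact h _ _

/-- Case B for an arbitrary point of the line. -/
theorem caseB' (hT : IsSym3 T) (hsm : SmoothOn T ⊤) (hli : LinearIndependent k ![a₀, a₁, n₀, n₁])
    (ha : OnX T a₀ a₁) (hn : OnX T n₀ n₁) (hR : ∀ s t : k, RL T a₀ a₁ (s • n₀ + t • n₁) = 0) {u v : k}
    (huv : u ≠ 0 ∨ v ≠ 0)
    (hB : ∀ s t : k, T (u • a₀ + v • a₁) (s • n₀ + t • n₁) (s • n₀ + t • n₁) = 0) : False := by
  rw [li4] at hli
  rcases huv with hu | hv
  · refine caseB hT hsm (a₀ := u • a₀ + v • a₁) (a₁ := (0 : k) • a₀ + (1 : k) • a₁) (li4.2 ?_) (ha.basis _ _ _ _)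
      hn (fun s t => by rw [RL_basis hT, hR, mul_zero]) hB
    intro x y z w h0
    obtain ⟨h1, h2, h3, h4⟩ := hli (x * u) (x * v + y) z w (by rw [← h0]; module)
    have hx : x = 0 := (mul_eq_zero.1 h1).resolve_right hu
    rw [hx, zero_mul, zero_add] at h2
    exact ⟨hx, h2, h3, h4⟩
  · refine caseB hT hsm (a₀ := u • a₀ + v • a₁) (a₁ := (1 : k) • a₀ + (0 : k) • a₁) (li4.2 ?_) (ha.basis _ _ _ _)
      hn (fun s t => by rw [RL_basis hT, hR, mul_zero]) hB
    intro x y z w h0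
    obtain ⟨h1, h2, h3, h4⟩ := hli (x * u + y) (x * v) z w (by rw [← h0]; module)
    have hx : x = 0 := (mul_eq_zero.1 h2).resolve_right hv
    rw [hx, zero_mul, zero_add] at h1
    exact ⟨hx, h1, h3, h4⟩

/-- Case C in normal form. -/
theorem caseC' (hT : IsSym3 T) (hsm : SmoothOn T ⊤) (hli : LinearIndependent k ![a₀, a₁, n₀, n₁])
    (ha : OnX T a₀ a₁) (hn : OnX T n₀ n₁) (hR : ∀ s t : k, RL T a₀ a₁ (s • n₀ + t • n₁) = 0)
    (h000 : T a₀ n₀ n₀ = 0) (h100 : T a₁ n₀ n₀ = 0) (h001 : T a₀ n₀ n₁ = 1) (h011 : T a₀ n₁ n₁ = 0)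
    (h101 : T a₁ n₀ n₁ = 0) (h111 : T a₁ n₁ n₁ = 2) : False := by
  have hinf : Infinite k := IsAlgClosed.instInfinite
  rw [li4] at hli
  have e : ∀ z, T z n₁ n₀ = T z n₀ n₁ := fun z => hT.s23 _ _ _
  have h4 : ∀ s : k, ∑ i : Fin 4, (![T a₀ a₀ n₁, T a₀ a₀ n₀ - 2 * T a₀ a₁ n₁, T a₁ a₁ n₁ - 2 * T a₀ a₁ n₀,
      T a₁ a₁ n₀] : Fin 4 → k) i * s ^ (i : ℕ) = 0 := by
    intro s
    have h5 := hR s 1
    rw [RL] at h5
    simp only [one_smul, map_add, map_smul, LinearMap.add_apply, LinearMap.smul_apply, smul_eq_mul, e, h000, h100,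
      h001, h011, h101, h111] at h5
    rw [Fin.sum_univ_four]
    simp only [Matrix.cons_val, Fin.val_zero, Fin.val_one, Fin.val_two, pow_zero, pow_one, mul_one]
    have h6 : ((3 : Fin 4) : ℕ) = 3 := rfl
    rw [h6]
    linear_combination (1 / 4 : k) * h5
  have f0 : T a₀ a₀ n₁ = 0 := K714.ConicIrr.coeffs_zero _ h4 0
  have f1 : T a₀ a₀ n₀ - 2 * T a₀ a₁ n₁ = 0 := K714.ConicIrr.coeffs_zero _ h4 1
  have f2 : T a₁ a₁ n₁ - 2 * T a₀ a₁ n₀ = 0 := K714.ConicIrr.coeffs_zero _ h4 2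
  have f3 : T a₁ a₁ n₀ = 0 := K714.ConicIrr.coeffs_zero _ h4 3
  refine no_plane3 hT hsm (p := ![a₀ - T a₀ a₁ n₁ • n₁, a₁ - T a₀ a₁ n₀ • n₁, n₀]) ?_ ?_
  · rw [Fintype.linearIndependent_iff]
    intro g hg
    rw [Fin.sum_univ_three] at hg
    obtain ⟨x0, x1, x2, -⟩ := hli (g 0) (g 1) (g 2) (-(g 0 * T a₀ a₁ n₁ + g 1 * T a₀ a₁ n₀)) (by
      rw [← hg]
      simp only [Matrix.cons_val]
      module)
    intro i
    fin_cases i
    exacts [x0, x1, x2]
  · intro u v s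
    have e1 : u • (![a₀ - T a₀ a₁ n₁ • n₁, a₁ - T a₀ a₁ n₀ • n₁, n₀] : Fin 3 → _) 0 +
        v • (![a₀ - T a₀ a₁ n₁ • n₁, a₁ - T a₀ a₁ n₀ • n₁, n₀] : Fin 3 → _) 1 +
        s • (![a₀ - T a₀ a₁ n₁ • n₁, a₁ - T a₀ a₁ n₀ • n₁, n₀] : Fin 3 → _) 2 =
        (u • a₀ + v • a₁) + (s • n₀ + (-(u * T a₀ a₁ n₁ + v * T a₀ a₁ n₀)) • n₁) := by
      simp only [Matrix.cons_val]
      module
    rw [e1, hT.cube_add, ha, hn]
    have e2 : T a₁ a₀ n₀ = T a₀ a₁ n₀ := (hT.s12 _ _ _).symm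
    have e3 : T a₁ a₀ n₁ = T a₀ a₁ n₁ := (hT.s12 _ _ _).symm
    simp only [map_add, map_smul, LinearMap.add_apply, LinearMap.smul_apply, smul_eq_mul, e, h000, h100,
      h001, h011, h101, h111, e2, e3, f0, f3]
    linear_combination (3 * u ^ 2 * s) * f1 + (-3 * v ^ 2 * (u * T a₀ a₁ n₁ + v * T a₀ a₁ n₀)) * f2

/-- Case C: the hyperplane is tangent at the point `n₀`. -/
theorem caseC (hT : IsSym3 T) (hsm : SmoothOn T ⊤) (hli : LinearIndependent k ![a₀, a₁, n₀, n₁])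
    (ha : OnX T a₀ a₁) (hn : OnX T n₀ n₁) (hR : ∀ s t : k, RL T a₀ a₁ (s • n₀ + t • n₁) = 0)
    (h000 : T a₀ n₀ n₀ = 0) (h100 : T a₁ n₀ n₀ = 0) : False := by
  have e : ∀ z, T z n₁ n₀ = T z n₀ n₁ := fun z => hT.s23 _ _ _
  by_cases hΔ : T a₀ n₀ n₁ * T a₁ n₁ n₁ - T a₀ n₁ n₁ * T a₁ n₀ n₁ = 0
  · obtain ⟨u, v, huv, h1, h2⟩ : ∃ u v : k, (u ≠ 0 ∨ v ≠ 0) ∧ u * T a₀ n₀ n₁ + v * T a₁ n₀ n₁ = 0 ∧
        u * T a₀ n₁ n₁ + v * T a₁ n₁ n₁ = 0 := by
      by_cases h1 : T a₀ n₀ n₁ = 0 ∧ T a₁ n₀ n₁ = 0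
      · by_cases h2 : T a₀ n₁ n₁ = 0 ∧ T a₁ n₁ n₁ = 0
        · exact ⟨1, 0, Or.inl one_ne_zero, by rw [h1.1]; ring, by rw [h2.1]; ring⟩
        · refine ⟨T a₁ n₁ n₁, - T a₀ n₁ n₁, ?_, by rw [h1.1, h1.2]; ring, by ring⟩
          rw [neg_ne_zero]
          tauto
      · refine ⟨T a₁ n₀ n₁, - T a₀ n₀ n₁, ?_, by ring, by linear_combination -hΔ⟩
        rw [neg_ne_zero]
        tauto
    refine caseB' hT hsm hli ha hn hR huv fun s t => ?_
    simp only [map_add, map_smul, LinearMap.add_apply, LinearMap.smul_apply, smul_eq_mul, e, h000, h100]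
    linear_combination (2 * s * t) * h1 + t ^ 2 * h2
  · set Δ := T a₀ n₀ n₁ * T a₁ n₁ n₁ - T a₀ n₁ n₁ * T a₁ n₀ n₁ with hΔd
    have hli' := li4.1 hli
    refine caseC' hT hsm (a₀ := (T a₁ n₁ n₁ / Δ) • a₀ + (-(T a₀ n₁ n₁) / Δ) • a₁)
      (a₁ := (-(2 * T a₁ n₀ n₁) / Δ) • a₀ + ((2 * T a₀ n₀ n₁) / Δ) • a₁) (li4.2 ?_) (ha.basis _ _ _ _)
      hn (fun s t => by rw [RL_basis hT, hR, mul_zero]) ?_ ?_ ?_ ?_ ?_ ?_
    · intro x y z w h0
      obtain ⟨h1, h2, h3, h4⟩ := hli' ((x * T a₁ n₁ n₁ - y * (2 * T a₁ n₀ n₁)) / Δ)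
        ((-(x * T a₀ n₁ n₁) + y * (2 * T a₀ n₀ n₁)) / Δ) z w (by rw [← h0]; module)
      rw [div_eq_zero_iff, or_iff_left hΔ] at h1 h2
      refine ⟨?_, ?_, h3, h4⟩
      · apply (mul_eq_zero.1 (show x * Δ = 0 by
          rw [hΔd]; linear_combination T a₀ n₀ n₁ * h1 + T a₁ n₀ n₁ * h2)).resolve_right hΔ
      · have : 2 * y * Δ = 0 := by
          rw [hΔd]; linear_combination T a₀ n₁ n₁ * h1 + T a₁ n₁ n₁ * h2
        exact (mul_eq_zero.1 ((mul_eq_zero.1 this).resolve_right hΔ)).resolve_left two_ne_zero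
    all_goals
      simp only [map_add, map_smul, LinearMap.add_apply, LinearMap.smul_apply, smul_eq_mul, h000, h100]
      try field_simp
      try rw [hΔd]
      try ring

/-- Case A: no tangency on the line `⟨n₀, n₁⟩`. -/
theorem caseA (hT : IsSym3 T) (hsm : SmoothOn T ⊤) (hli : LinearIndependent k ![a₀, a₁, n₀, n₁])
    (ha : OnX T a₀ a₁) (hR : ∀ s t : k, RL T a₀ a₁ (s • n₀ + t • n₁) = 0)
    (hno : ∀ s t : k, (s ≠ 0 ∨ t ≠ 0) → T a₀ (s • n₀ + t • n₁) (s • n₀ + t • n₁) = 0 →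
      T a₁ (s • n₀ + t • n₁) (s • n₀ + t • n₁) = 0 → False) : False := by
  have hinf : Infinite k := IsAlgClosed.instInfinite
  have e : ∀ z, T z n₁ n₀ = T z n₀ n₁ := fun z => hT.s23 _ _ _
  let A : (Fin 5 → k) → Fin (2 + 1) → k := fun z => ![T z n₀ n₀, 2 * T z n₀ n₁, T z n₁ n₁]
  let F : (Fin 5 → k) → (Fin 5 → k) → Fin (1 + 1) → k := fun z w => ![T z w n₀, T z w n₁]
  have hA : ∀ z (x : Fin 2 → k), MvPolynomial.eval x (K798.TwBin.bp (A z)) =
      T z (x 0 • n₀ + x 1 • n₁) (x 0 • n₀ + x 1 • n₁) := by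
    intro z x
    rw [K798.TwBin.eval_bp, K798.TwBin.bv, Fin.sum_univ_three]
    simp only [A, Matrix.cons_val, Fin.val_zero, Fin.val_one, Fin.val_two, map_add, map_smul, LinearMap.add_apply,
      LinearMap.smul_apply, smul_eq_mul, e]
    ring
  have hF : ∀ z w (x : Fin 2 → k), MvPolynomial.eval x (K798.TwBin.bp (F z w)) =
      T z w (x 0 • n₀ + x 1 • n₁) := by
    intro z w x
    rw [K798.TwBin.eval_bp, K798.TwBin.bv, Fin.sum_univ_two]
    simp only [F, Matrix.cons_val, Fin.val_zero, Fin.val_one, map_add, map_smul, smul_eq_mul]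
    ring
  have hrel0 : IsRelPrime (K798.TwBin.bp (A a₀)) (K798.TwBin.bp (A a₁)) := by
    refine K713.Binary.isRelPrime_of_no_common_zero (K798.TwBin.isHomogeneous_bp _) (K798.TwBin.isHomogeneous_bp _)
      fun x hx h1 h2 => ?_
    rw [hA] at h1 h2
    exact hno _ _ (K798.TwBin.or_of_ne_zero hx) h1 h2
  have hne : ∀ z z', (∀ s t : k, (s ≠ 0 ∨ t ≠ 0) → T z (s • n₀ + t • n₁) (s • n₀ + t • n₁) = 0 →
      T z' (s • n₀ + t • n₁) (s • n₀ + t • n₁) = 0 → False) → K798.TwBin.bp (A z) ≠ 0 := by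
    intro z z' h h0
    obtain ⟨x, hx, hx0⟩ := K713.Binary.exists_zero (K798.TwBin.isHomogeneous_bp (A z')) two_pos
    rw [hA] at hx0
    refine h _ _ (K798.TwBin.or_of_ne_zero hx) ?_ hx0
    rw [← hA, h0, map_zero]
  have hA0 := hne a₀ a₁ hno
  have hA1 := hne a₁ a₀ fun s t hst h1 h2 => hno s t hst h2 h1
  have hpoly : K798.TwBin.bp (F a₀ a₀) * K798.TwBin.bp (A a₁) ^ 2 -
      2 * K798.TwBin.bp (F a₀ a₁) * (K798.TwBin.bp (A a₀) * K798.TwBin.bp (A a₁)) +
      K798.TwBin.bp (F a₁ a₁) * K798.TwBin.bp (A a₀) ^ 2 = 0 := by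
    refine MvPolynomial.funext fun x => ?_
    have h1 := hR (x 0) (x 1)
    rw [RL, ← hA, ← hA, ← hF, ← hF, ← hF] at h1
    rw [map_zero, ← h1]
    simp only [map_add, map_sub, map_mul, map_pow, map_ofNat]
  have f11 : K798.TwBin.bp (F a₁ a₁) = 0 := by
    refine K798.TwBin.eq_zero_of_rel (P := K798.TwBin.bp (A a₀) ^ 2) (Q := K798.TwBin.bp (A a₁))
      (b := K798.TwBin.bp (F a₀ a₀) * K798.TwBin.bp (A a₁) -
      2 * K798.TwBin.bp (F a₀ a₁) * K798.TwBin.bp (A a₀)) (p := 1) (q := 2) (K798.TwBin.isHomogeneous_bp _) hA1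
      (K798.TwBin.isHomogeneous_bp _) (by norm_num) hrel0.pow_left ?_
    linear_combination hpoly
  have f00 : K798.TwBin.bp (F a₀ a₀) = 0 := by
    refine K798.TwBin.eq_zero_of_rel (P := K798.TwBin.bp (A a₁) ^ 2) (Q := K798.TwBin.bp (A a₀))
      (b := K798.TwBin.bp (F a₁ a₁) * K798.TwBin.bp (A a₀) -
      2 * K798.TwBin.bp (F a₀ a₁) * K798.TwBin.bp (A a₁)) (p := 1) (q := 2) (K798.TwBin.isHomogeneous_bp _) hA0
      (K798.TwBin.isHomogeneous_bp _) (by norm_num) hrel0.symm.pow_left ?_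
    linear_combination hpoly
  have f01 : K798.TwBin.bp (F a₀ a₁) = 0 := by
    rw [f11, f00] at hpoly
    have h1 : K798.TwBin.bp (F a₀ a₁) * (K798.TwBin.bp (A a₀) * K798.TwBin.bp (A a₁)) = 0 := by
      have h2 : (2 : MvPolynomial (Fin 2) k) *
          (K798.TwBin.bp (F a₀ a₁) * (K798.TwBin.bp (A a₀) * K798.TwBin.bp (A a₁))) = 0 := by
        linear_combination -hpoly
      exact (mul_eq_zero.1 h2).resolve_left two_ne_zero
    exact (mul_eq_zero.1 h1).resolve_right (mul_ne_zero hA0 hA1)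
  have val : ∀ z w, K798.TwBin.bp (F z w) = 0 → T z w n₀ = 0 ∧ T z w n₁ = 0 := by
    intro z w h
    have h1 := hF z w ![1, 0]
    have h2 := hF z w ![0, 1]
    rw [h, map_zero] at h1 h2
    constructor
    · simpa using h1.symm
    · simpa using h2.symm
  have aU : ∀ u ∈ Submodule.span k {a₀, a₁}, T u u u = 0 := by
    intro u hu
    obtain ⟨x, y, rfl⟩ := Submodule.mem_span_pair.1 hu
    exact ha x y
  have m0 : a₀ ∈ Submodule.span k {a₀, a₁} := Submodule.subset_span (by simp)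
  have m1 : a₁ ∈ Submodule.span k {a₀, a₁} := Submodule.subset_span (by simp)
  refine no_tangent hT hsm (h := ![a₀, a₁, n₀, n₁]) hli (z₀ := a₀) (z₁ := a₁) ?_ ?_ ?_ ?_
  · rw [LinearIndependent.pair_iff]
    intro x y hxy
    obtain ⟨x0, x1, -, -⟩ := li4.1 hli x y 0 0 (by rw [← hxy]; simp)
    exact ⟨x0, x1⟩
  · intro i
    fin_cases i
    · exact hT.eq_zero_of_diag _ aU m0 m0 m0
    · exact hT.eq_zero_of_diag _ aU m0 m0 m1
    · exact (val _ _ f00).1
    · exact (val _ _ f00).2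
  · intro i
    fin_cases i
    · exact hT.eq_zero_of_diag _ aU m0 m1 m0
    · exact hT.eq_zero_of_diag _ aU m0 m1 m1
    · exact (val _ _ f01).1
    · exact (val _ _ f01).2
  · intro i
    fin_cases i
    · exact hT.eq_zero_of_diag _ aU m1 m1 m0
    · exact hT.eq_zero_of_diag _ aU m1 m1 m1
    · exact (val _ _ f11).1
    · exact (val _ _ f11).2

/-- The general point of a line is not joined to a given skew line. -/
theorem exists_RL_ne_zero (hT : IsSym3 T) (hsm : SmoothOn T ⊤) (hli : LinearIndependent k ![a₀, a₁, n₀, n₁])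
    (ha : OnX T a₀ a₁) (hn : OnX T n₀ n₁) : ∃ s t : k, RL T a₀ a₁ (s • n₀ + t • n₁) ≠ 0 := by
  by_contra hcon
  push Not at hcon
  refine caseA hT hsm hli ha hcon fun s t hst h0 h1 => ?_
  have hli' := li4.1 hli
  rcases hst with hs | ht
  · refine caseC hT hsm (n₀ := s • n₀ + t • n₁) (n₁ := (0 : k) • n₀ + (1 : k) • n₁) (li4.2 ?_) ha
      (hn.basis _ _ _ _) (fun x y => ?_) h0 h1
    · intro x y z w h2
      obtain ⟨x0, x1, x2, x3⟩ := hli' x y (z * s) (z * t + w) (by rw [← h2]; module)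
      have hz : z = 0 := (mul_eq_zero.1 x2).resolve_right hs
      rw [hz, zero_mul, zero_add] at x3
      exact ⟨x0, x1, hz, x3⟩
    · have e1 : x • (s • n₀ + t • n₁) + y • ((0 : k) • n₀ + (1 : k) • n₁) = (x * s) • n₀ + (x * t + y) • n₁ := by
        module
      rw [e1]
      exact hcon _ _
  · refine caseC hT hsm (n₀ := s • n₀ + t • n₁) (n₁ := (1 : k) • n₀ + (0 : k) • n₁) (li4.2 ?_) ha
      (hn.basis _ _ _ _) (fun x y => ?_) h0 h1
    · intro x y z w h2
      obtain ⟨x0, x1, x2, x3⟩ := hli' x y (z * s + w) (z * t) (by rw [← h2]; module)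
      have hz : z = 0 := (mul_eq_zero.1 x3).resolve_right ht
      rw [hz, zero_mul, zero_add] at x2
      exact ⟨x0, x1, hz, x2⟩
    · have e1 : x • (s • n₀ + t • n₁) + y • ((1 : k) • n₀ + (0 : k) • n₁) = (x * s + y) • n₀ + (x * t) • n₁ := by
        module
      rw [e1]
      exact hcon _ _

end

end K483.SkewR
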